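import Mathlib

set_option autoImplicit false
open Equiv Equiv.Perm MulAction
open scoped Pointwise

namespace Cfsg.Agent.S2245L

/-- A1 : odd binomial. -/
theorem odd_choose_of_invariant {G : Type*} [Group G] [Finite G] {α : Type*} [Fintype α]
    [DecidableEq α] [MulAction G α] (R : Sylow 2 G) (Y : Finset α)
    (ht : IsPretransitive G (Set.powersetCard α Y.card))
    (hinv : ∀ r ∈ (R : Subgroup G), r • Y = Y) :
    Odd ((Fintype.card α).choose Y.card) := by
  have : Fact (Nat.Prime 2) := ⟨Nat.prime_two⟩
  let y : Set.powersetCard α Y.card := Set.powersetCard.ofCard (s := Y) rfl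
  have hle : (R : Subgroup G) ≤ stabilizer G y := by
    intro r hr
    rw [mem_stabilizer_iff]
    apply Subtype.ext
    rw [Set.powersetCard.coe_smul]
    exact hinv r hr
  have hidx : (stabilizer G y).index = (Fintype.card α).choose Y.card := by
    rw [index_stabilizer_of_transitive G y, Set.powersetCard.card, Nat.card_eq_fintype_card]
  have hdvd : (stabilizer G y).index ∣ (R : Subgroup G).index := Subgroup.index_dvd_of_le hle
  have hnd : ¬ 2 ∣ (R : Subgroup G).index := R.not_dvd_index
  rw [← hidx]
  rw [← Nat.not_even_iff_odd, even_iff_two_dvd]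
  exact fun h => hnd (h.trans hdvd)

/-- A3 -/
theorem even_choose_two_pow (i s : ℕ) (h1 : 1 ≤ s) (hs : s < 2 ^ i) :
    Even ((2 ^ i).choose s) := by
  rw [even_iff_two_dvd]
  exact Nat.Prime.dvd_choose_pow Nat.prime_two (by omega) (by omega)

/-- A2 -/
theorem even_choose_two_pow_add_one (k s : ℕ) (h2 : 2 ≤ s) (hs : s + 2 ≤ 2 ^ k + 1) :
    Even ((2 ^ k + 1).choose s) := by
  obtain ⟨t, rfl⟩ : ∃ t, s = t + 1 := ⟨s - 1, by omega⟩
  rw [Nat.choose_succ_succ']
  exact (even_choose_two_pow k t (by omega) (by omega)).add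
    (even_choose_two_pow k (t + 1) (by omega) (by omega))

end Cfsg.Agent.S2245L
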