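import Mathlib

/-!
# S2245, piece B: a primitive subgroup of `S_n` containing a Sylow 2-subgroup is `S_n`
(a Sylow 2-subgroup contains a swap; Jordan).
-/

set_option autoImplicit false
open Equiv Equiv.Perm MulAction
open scoped Pointwise

namespace Cfsg.Agent.S2245L

/-- a Sylow 2-subgroup of `S_n`, `n ≥ 2`, contains a swap -/
theorem B_exists_swap_mem_sylow (n : ℕ) (hn : 2 ≤ n) (R : Sylow 2 (Perm (Fin n))) :
    ∃ g : Perm (Fin n), g.IsSwap ∧ g ∈ (R : Subgroup (Perm (Fin n))) := by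
  have h2 : Fact (Nat.Prime 2) := ⟨Nat.prime_two⟩
  let i0 : Fin n := ⟨0, by omega⟩
  let i1 : Fin n := ⟨1, by omega⟩
  have h01 : i0 ≠ i1 := by
    intro h; have := congrArg Fin.val h; simp [i0, i1] at this
  let s : Perm (Fin n) := swap i0 i1
  have hs2 : s * s = 1 := swap_mul_self i0 i1
  have hP : IsPGroup 2 (Subgroup.zpowers s) := by
    apply IsPGroup.of_card (n := 1)
    rw [Nat.card_zpowers]
    have : orderOf s = 2 := by
      apply orderOf_eq_prime
      · rw [pow_two]; exact hs2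
      · intro h
        have := congrArg (fun f : Perm (Fin n) => f i0) h
        simp [s, swap_apply_left] at this
        exact h01 this.symm
    rw [this]; norm_num
  obtain ⟨Q, hQ⟩ := hP.exists_le_sylow
  obtain ⟨c, hc⟩ := MulAction.exists_smul_eq (Perm (Fin n)) Q R
  refine ⟨c * s * c⁻¹, ?_, ?_⟩
  · refine ⟨c i0, c i1, fun h => h01 (c.injective h), ?_⟩
    show c * swap i0 i1 * c⁻¹ = swap (c i0) (c i1)
    rw [← Equiv.swap_apply_apply]
  · rw [← hc, Sylow.coe_subgroup_smul, Subgroup.mem_pointwise_smul_iff_inv_smul_mem]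
    simp only [MulAut.smul_def, MulAut.conj_inv_apply]
    have : c⁻¹ * (c * s * c⁻¹) * c = s := by group
    rw [this]
    exact hQ (Subgroup.mem_zpowers s)

theorem perm_primitive_eq_top (n : ℕ) (hn : 2 ≤ n) (R : Sylow 2 (Perm (Fin n)))
    (M : Subgroup (Perm (Fin n))) (hRM : (R : Subgroup (Perm (Fin n))) ≤ M)
    (hprim : IsPreprimitive M (Fin n)) : M = ⊤ := by
  obtain ⟨g, hg, hgR⟩ := B_exists_swap_mem_sylow n hn R
  exact Equiv.Perm.subgroup_eq_top_of_isPreprimitive_of_isSwap_mem hprim g hg (hRM hgR)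

end Cfsg.Agent.S2245L
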