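import Mathlib
import Cfsg.Agent.Lib.S2245.A

/-! S2245 piece BC (helper1): the generic backward core. -/

set_option autoImplicit false
open Equiv Equiv.Perm MulAction
open scoped Pointwise

namespace Cfsg.Agent.S2245L

/-- BC1: possible cardinalities of an `R`-invariant finset when `|α| = 2^k + 1`. -/
theorem BC_card_of_invariant {G : Type*} [Group G] [Finite G] {α : Type*} [Fintype α] [DecidableEq α]
    [MulAction G α] (k : ℕ) (hcard : Fintype.card α = 2 ^ k + 1)
    (htr : ∀ s, IsPretransitive G (Set.powersetCard α s)) (R : Sylow 2 G) (Y : Finset α)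
    (hinv : ∀ r ∈ (R : Subgroup G), r • Y = Y) :
    Y.card = 0 ∨ Y.card = 1 ∨ Y.card = 2 ^ k ∨ Y.card = 2 ^ k + 1 := by
  have hodd := odd_choose_of_invariant R Y (htr _) hinv
  rw [hcard] at hodd
  have hle : Y.card ≤ 2 ^ k + 1 := hcard ▸ Finset.card_le_univ Y
  by_contra hcon
  push Not at hcon
  have h2 : 2 ≤ Y.card := by omega
  have hs : Y.card + 2 ≤ 2 ^ k + 1 := by omega
  exact (Nat.not_even_iff_odd.mpr hodd) (even_choose_two_pow_add_one k _ h2 hs)

/-- BC2: the same for sets. -/
theorem BC_ncard_of_invariant {G : Type*} [Group G] [Finite G] {α : Type*} [Fintype α] [DecidableEq α]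
    [MulAction G α] (k : ℕ) (hcard : Fintype.card α = 2 ^ k + 1)
    (htr : ∀ s, IsPretransitive G (Set.powersetCard α s)) (R : Sylow 2 G) (S : Set α)
    (hinv : ∀ r ∈ (R : Subgroup G), r • S = S) :
    S.ncard = 0 ∨ S.ncard = 1 ∨ S.ncard = 2 ^ k ∨ S.ncard = 2 ^ k + 1 := by
  classical
  have hfin := Set.toFinite S
  have := BC_card_of_invariant k hcard htr R hfin.toFinset (by
    intro r hr
    apply Finset.coe_injective
    rw [Finset.coe_smul_finset, Set.Finite.coe_toFinset, hinv r hr])
  rwa [← Set.ncard_eq_toFinset_card S hfin] at this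

theorem backward_core {G : Type*} [Group G] [Finite G] {α : Type*} [Fintype α] [DecidableEq α]
    [MulAction G α] (k : ℕ) (hk : 2 ≤ k) (hcard : Fintype.card α = 2 ^ k + 1)
    (htr : ∀ s, IsPretransitive G (Set.powersetCard α s))
    (hco : ∀ a : α, IsCoatom (stabilizer G a))
    (R : Sylow 2 G)
    (hJ : ∀ (M : Subgroup G) (a : α), (R : Subgroup G) ≤ M →
      (∀ r ∈ (R : Subgroup G), r • a = a) →
      (∀ x y : α, x ≠ a → y ≠ a → ∃ r ∈ (R : Subgroup G), r • x = y) →
      IsPreprimitive M α → M = ⊤) :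
    ∃! M : Subgroup G, IsCoatom M ∧ (R : Subgroup G) ≤ M := by
  classical
  haveI : Fact (Nat.Prime 2) := ⟨Nat.prime_two⟩
  have hkpow : 4 ≤ 2 ^ k := by
    calc 4 = 2 ^ 2 := rfl
      _ ≤ 2 ^ k := Nat.pow_le_pow_right (by norm_num) hk
  have h2dvd : 2 ∣ 2 ^ k := dvd_pow_self 2 (by omega)
  have hcardN : Nat.card α = 2 ^ k + 1 := by rw [Nat.card_eq_fintype_card, hcard]
  -- fixed point
  have hRp : IsPGroup 2 (R : Subgroup G) := R.isPGroup'
  obtain ⟨a, ha⟩ := hRp.nonempty_fixed_point_of_prime_not_dvd_card α (by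
    rw [hcardN]; omega)
  have hfix : ∀ r ∈ (R : Subgroup G), r • a = a := fun r hr => ha ⟨r, hr⟩
  -- a is the only fixed point
  have huniq : ∀ x : α, (∀ r ∈ (R : Subgroup G), r • x = x) → x = a := by
    intro x hx
    by_contra hne
    have := BC_ncard_of_invariant k hcard htr R ({a, x} : Set α) (by
      intro r hr
      rw [Set.smul_set_insert, Set.smul_set_singleton, hfix r hr, hx r hr])
    rw [Set.ncard_pair (Ne.symm hne)] at this
    omega
  have hcompl : ({a}ᶜ : Set α).ncard = 2 ^ k := by
    rw [Set.ncard_compl, Set.ncard_singleton, hcardN]; omega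
  -- transitivity on the complement
  have htrans : ∀ x y : α, x ≠ a → y ≠ a → ∃ r ∈ (R : Subgroup G), r • x = y := by
    intro x y hx hy
    set O : Set α := MulAction.orbit (R : Subgroup G) x with hO
    have hOinv : ∀ r ∈ (R : Subgroup G), r • O = O := by
      intro r hr
      exact MulAction.smul_orbit (⟨r, hr⟩ : (R : Subgroup G)) x
    have haO : a ∉ O := by
      rintro ⟨r, hr⟩
      apply hx
      have h1 : r⁻¹ • a = x := by
        have : (r • x : α) = a := hr
        rw [← this, inv_smul_smul]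
      rw [← h1]
      exact hfix ((r⁻¹ : (R : Subgroup G)) : G) (r⁻¹).2
    have hxO : x ∈ O := MulAction.mem_orbit_self x
    have hcases := BC_ncard_of_invariant k hcard htr R O hOinv
    have hOne : O.ncard ≠ 0 := Set.ncard_ne_zero_of_mem hxO
    have hO1 : O.ncard ≠ 1 := by
      intro h1
      rw [Set.ncard_eq_one] at h1
      obtain ⟨w, hw⟩ := h1
      have hxw : x = w := by rw [hw] at hxO; exact hxO
      apply hx; apply huniq
      intro r hr
      have : r • x ∈ O := ⟨⟨r, hr⟩, rfl⟩
      rw [hw, Set.mem_singleton_iff] at this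
      rw [this, hxw]
    have hsub : O ⊆ ({a}ᶜ : Set α) := by
      intro w hw hwa
      rw [Set.mem_singleton_iff] at hwa
      exact haO (hwa ▸ hw)
    have hle := Set.ncard_le_ncard hsub (Set.toFinite _)
    have hOeq : O.ncard = 2 ^ k := by omega
    have hOc : O = {a}ᶜ := Set.eq_of_subset_of_ncard_le hsub (by rw [hOeq, hcompl]) (Set.toFinite _)
    have hyO : y ∈ O := by rw [hOc]; exact hy
    obtain ⟨r, hr⟩ := hyO
    exact ⟨r, r.2, hr⟩
  have hRM0 : (R : Subgroup G) ≤ stabilizer G a := fun r hr => mem_stabilizer_iff.mpr (hfix r hr)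
  refine ⟨stabilizer G a, ⟨hco a, hRM0⟩, ?_⟩
  rintro M ⟨hMco, hRM⟩
  set Y : Set α := MulAction.orbit M a with hY
  have hYinvM : ∀ m ∈ M, m • Y = Y := fun m hm => MulAction.smul_orbit (⟨m, hm⟩ : M) a
  have hYinv : ∀ r ∈ (R : Subgroup G), r • Y = Y := fun r hr => hYinvM r (hRM hr)
  have haY : a ∈ Y := MulAction.mem_orbit_self a
  rcases BC_ncard_of_invariant k hcard htr R Y hYinv with h | h | h | h
  · exact absurd h (Set.ncard_ne_zero_of_mem haY)
  · -- Y = {a}
    have hYa : Y = {a} := by
      obtain ⟨w, hw⟩ := Set.ncard_eq_one.mp h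
      rw [hw] at haY ⊢
      rw [Set.mem_singleton_iff.mp haY]
    have hle : M ≤ stabilizer G a := by
      intro m hm
      rw [mem_stabilizer_iff]
      have : m • a ∈ Y := ⟨⟨m, hm⟩, rfl⟩
      rw [hYa] at this; exact this
    rcases hMco.le_iff.mp hle with h1 | h1
    · exact absurd h1 (hco a).1
    · exact h1.symm
  · -- |Y| = 2^k: the complement is a fixed point ≠ a
    exfalso
    have hc1 : (Yᶜ : Set α).ncard = 1 := by
      rw [Set.ncard_compl, hcardN, h]; omega
    obtain ⟨x, hx⟩ := Set.ncard_eq_one.mp hc1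
    have hxa : x ≠ a := by
      intro hxa
      have : a ∈ Yᶜ := by rw [hx, hxa]; exact Set.mem_singleton _
      exact this haY
    apply hxa; apply huniq
    intro r hr
    have h1 : r • (Yᶜ : Set α) = Yᶜ := by rw [Set.smul_set_compl, hYinv r hr]
    rw [hx, Set.smul_set_singleton] at h1
    exact Set.singleton_injective h1
  · -- M transitive, hence primitive, hence ⊤
    exfalso
    have hYuniv : Y = Set.univ := by
      have hc0 : (Yᶜ : Set α).ncard = 0 := by
        rw [Set.ncard_compl, hcardN, h]; omega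
      rw [Set.ncard_eq_zero] at hc0
      exact Set.compl_empty_iff.mp hc0
    haveI htM : IsPretransitive M α := by
      refine ⟨fun x y => ?_⟩
      have hx : x ∈ Y := hYuniv ▸ Set.mem_univ x
      have hy : y ∈ Y := hYuniv ▸ Set.mem_univ y
      obtain ⟨g, hg⟩ := hx
      obtain ⟨g', hg'⟩ := hy
      refine ⟨g' * g⁻¹, ?_⟩
      have hg1 : g • a = x := hg
      have hg2 : g' • a = y := hg'
      rw [mul_smul, ← hg1, inv_smul_smul, hg2]
    have hprim : IsPreprimitive M α := by
      apply IsPreprimitive.of_isTrivialBlock_base a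
      intro B haB hB
      have hBinv : ∀ r ∈ (R : Subgroup G), r • B = B := by
        intro r hr
        have := hB.smul_eq_of_mem (g := (⟨r, hRM hr⟩ : M)) haB
          (by show r • a ∈ B; rw [hfix r hr]; exact haB)
        exact this
      have hdvd : B.ncard ∣ Nat.card α := hB.ncard_dvd_card ⟨a, haB⟩
      rw [hcardN] at hdvd
      rcases BC_ncard_of_invariant k hcard htr R B hBinv with h1 | h1 | h1 | h1
      · exact absurd h1 (Set.ncard_ne_zero_of_mem haB)
      · left
        obtain ⟨w, hw⟩ := Set.ncard_eq_one.mp h1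
        rw [hw]; exact Set.subsingleton_singleton
      · exfalso
        rw [h1] at hdvd
        have : 2 ^ k ∣ 1 := (Nat.dvd_add_right (dvd_refl _)).mp hdvd
        have := Nat.le_of_dvd (by norm_num) this
        omega
      · right
        apply hB.eq_univ_of_card_lt
        rw [hcardN, h1]; omega
    exact hMco.1 (hJ M a hRM hfix htrans hprim)

end Cfsg.Agent.S2245L
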