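import Mathlib
import Cfsg.Agent.Lib.S2245.A

set_option autoImplicit false
set_option linter.unusedVariables false
open Equiv Equiv.Perm MulAction
open scoped Pointwise

namespace Cfsg.Agent.S2245L

/-- an `R`-invariant finset has cardinality `0, 1, 2^k` or `2^k+1`. -/
theorem BC_card_mem {G : Type*} [Group G] [Finite G] {α : Type*} [Fintype α] [DecidableEq α]
    [MulAction G α] (k : ℕ) (hk : 2 ≤ k) (hcard : Fintype.card α = 2 ^ k + 1)
    (htr : ∀ s, IsPretransitive G (Set.powersetCard α s)) (R : Sylow 2 G) (Y : Finset α)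
    (hinv : ∀ r ∈ (R : Subgroup G), r • Y = Y) :
    Y.card = 0 ∨ Y.card = 1 ∨ Y.card = 2 ^ k ∨ Y.card = 2 ^ k + 1 := by
  have hodd := odd_choose_of_invariant R Y (htr Y.card) hinv
  rw [hcard] at hodd
  have hle : Y.card ≤ 2 ^ k + 1 := hcard ▸ Finset.card_le_univ Y
  by_contra hcon
  push Not at hcon
  obtain ⟨h0, h1, h2, h3⟩ := hcon
  have heven := even_choose_two_pow_add_one k Y.card (by omega) (by omega)
  exact (Nat.not_even_iff_odd.mpr hodd) heven

/-- `R` fixes a point. -/
theorem BC_exists_fixed {G : Type*} [Group G] [Finite G] {α : Type*} [Fintype α] [DecidableEq α]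
    [MulAction G α] (k : ℕ) (hk : 2 ≤ k) (hcard : Fintype.card α = 2 ^ k + 1)
    (htr : ∀ s, IsPretransitive G (Set.powersetCard α s)) (R : Sylow 2 G) :
    ∃ a : α, ∀ r ∈ (R : Subgroup G), r • a = a := by
  have : Fact (Nat.Prime 2) := ⟨Nat.prime_two⟩
  have hnd : ¬ 2 ∣ Nat.card α := by
    rw [Nat.card_eq_fintype_card, hcard]
    have : 2 ∣ 2 ^ k := dvd_pow_self 2 (by omega)
    omega
  obtain ⟨a, ha⟩ := R.isPGroup'.nonempty_fixed_point_of_prime_not_dvd_card α hnd
  refine ⟨a, fun r hr => ?_⟩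
  exact ha ⟨r, hr⟩

/-- the fixed point of `R` is unique. -/
theorem BC_unique_fixed {G : Type*} [Group G] [Finite G] {α : Type*} [Fintype α] [DecidableEq α]
    [MulAction G α] (k : ℕ) (hk : 2 ≤ k) (hcard : Fintype.card α = 2 ^ k + 1)
    (htr : ∀ s, IsPretransitive G (Set.powersetCard α s)) (R : Sylow 2 G) (a x : α)
    (ha : ∀ r ∈ (R : Subgroup G), r • a = a) (hx : ∀ r ∈ (R : Subgroup G), r • x = x) :
    x = a := by
  by_contra hne
  have hinv : ∀ r ∈ (R : Subgroup G), r • ({a, x} : Finset α) = {a, x} := by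
    intro r hr
    rw [Finset.smul_finset_insert, Finset.smul_finset_singleton, ha r hr, hx r hr]
  have hc : ({a, x} : Finset α).card = 2 := Finset.card_pair (Ne.symm hne)
  have h4 : 4 ≤ 2 ^ k := by
    calc 4 = 2 ^ 2 := by norm_num
      _ ≤ 2 ^ k := Nat.pow_le_pow_right (by norm_num) hk
  rcases BC_card_mem k hk hcard htr R _ hinv with h | h | h | h <;> omega

/-- `R` is transitive on the complement of its fixed point. -/
theorem BC_transitive_off_fixed {G : Type*} [Group G] [Finite G] {α : Type*} [Fintype α]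
    [DecidableEq α] [MulAction G α] (k : ℕ) (hk : 2 ≤ k) (hcard : Fintype.card α = 2 ^ k + 1)
    (htr : ∀ s, IsPretransitive G (Set.powersetCard α s)) (R : Sylow 2 G) (a : α)
    (ha : ∀ r ∈ (R : Subgroup G), r • a = a) :
    ∀ x y : α, x ≠ a → y ≠ a → ∃ r ∈ (R : Subgroup G), r • x = y := by
  classical
  intro x y hxa hya
  -- the orbit of `x` as a finset
  set O : Finset α := Finset.univ.filter (fun z => ∃ r ∈ (R : Subgroup G), r • x = z) with hO
  have hxO : x ∈ O := by
    rw [hO, Finset.mem_filter]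
    exact ⟨Finset.mem_univ _, 1, (R : Subgroup G).one_mem, one_smul _ _⟩
  have haO : a ∉ O := by
    rw [hO, Finset.mem_filter]
    rintro ⟨-, r, hr, hrx⟩
    apply hxa
    have : r⁻¹ • a = x := by rw [← hrx, inv_smul_smul]
    rw [← this]
    exact ha _ ((R : Subgroup G).inv_mem hr)
  have hinv : ∀ r ∈ (R : Subgroup G), r • O = O := by
    intro r hr
    ext z
    rw [← Finset.inv_smul_mem_iff]
    simp only [hO, Finset.mem_filter, Finset.mem_univ, true_and]
    constructor
    · rintro ⟨t, ht, htx⟩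
      refine ⟨r * t, (R : Subgroup G).mul_mem hr ht, ?_⟩
      rw [mul_smul, htx, smul_inv_smul]
    · rintro ⟨t, ht, htx⟩
      refine ⟨r⁻¹ * t, (R : Subgroup G).mul_mem ((R : Subgroup G).inv_mem hr) ht, ?_⟩
      rw [mul_smul, htx]
  have hsub : O ⊆ Finset.univ.erase a := by
    intro z hz
    rw [Finset.mem_erase]
    exact ⟨fun h => haO (h ▸ hz), Finset.mem_univ _⟩
  have hce : (Finset.univ.erase a : Finset α).card = 2 ^ k := by
    rw [Finset.card_erase_of_mem (Finset.mem_univ a), Finset.card_univ, hcard, Nat.add_sub_cancel]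
  have hOle : O.card ≤ 2 ^ k := hce ▸ Finset.card_le_card hsub
  have hO0 : O.card ≠ 0 := Finset.card_ne_zero_of_mem hxO
  have hO1 : O.card ≠ 1 := by
    intro h1
    obtain ⟨z, hz⟩ := Finset.card_eq_one.mp h1
    have hxz : x = z := by rw [hz] at hxO; exact Finset.mem_singleton.mp hxO
    apply hxa
    apply BC_unique_fixed k hk hcard htr R a x ha
    intro r hr
    have : r • x ∈ O := by
      rw [hO, Finset.mem_filter]
      exact ⟨Finset.mem_univ _, r, hr, rfl⟩
    rw [hz, Finset.mem_singleton] at this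
    rw [this, hxz]
  have hOk : O.card = 2 ^ k := by
    rcases BC_card_mem k hk hcard htr R O hinv with h | h | h | h
    · exact absurd h hO0
    · exact absurd h hO1
    · exact h
    · omega
  have hOeq : O = Finset.univ.erase a := Finset.eq_of_subset_of_card_le hsub (by omega)
  have hyO : y ∈ O := by
    rw [hOeq, Finset.mem_erase]
    exact ⟨hya, Finset.mem_univ _⟩
  rw [hO, Finset.mem_filter] at hyO
  exact hyO.2

end Cfsg.Agent.S2245L
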