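import Mathlib

set_option autoImplicit false
open Equiv Equiv.Perm MulAction
open scoped Pointwise

namespace Cfsg.Agent.S2245L

/-! ## Piece C1 : Klein four-groups on 4-sets, pair lemmas -/

/-- `H` contains the Klein four-group on the 4-set `Y` (acting trivially outside `Y`). -/
def HasKlein {α : Type*} [DecidableEq α] (H : Subgroup (Perm α)) (Y : Finset α) : Prop :=
  ∀ p q r s : α, p ≠ q → p ≠ r → p ≠ s → q ≠ r → q ≠ s → r ≠ s →
    ({p, q, r, s} : Finset α) = Y → swap p q * swap r s ∈ H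

theorem HasKlein.mono {α : Type*} [DecidableEq α] {H K : Subgroup (Perm α)} {Y : Finset α}
    (h : HasKlein H Y) (hHK : H ≤ K) : HasKlein K Y :=
  fun p q r s h1 h2 h3 h4 h5 h6 hY => hHK (h p q r s h1 h2 h3 h4 h5 h6 hY)

theorem HasKlein.image {α : Type*} [DecidableEq α] {H : Subgroup (Perm α)} {Y : Finset α}
    (h : HasKlein H Y) (g : Perm α) (hg : g ∈ H) : HasKlein H (Y.image g) := by
  intro p q r s h1 h2 h3 h4 h5 h6 hY
  -- pull back by `g⁻¹`
  have hinj : Function.Injective (g⁻¹ : Perm α) := (g⁻¹ : Perm α).injective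
  have hY' : ({g⁻¹ p, g⁻¹ q, g⁻¹ r, g⁻¹ s} : Finset α) = Y := by
    have : (({p, q, r, s} : Finset α).image (g⁻¹ : Perm α)) = (Y.image g).image (g⁻¹ : Perm α) := by
      rw [hY]
    rw [Finset.image_image] at this
    have hid : ((g⁻¹ : Perm α) : α → α) ∘ (g : α → α) = id := by
      funext x; simp
    rw [hid, Finset.image_id] at this
    rw [← this]
    simp [Finset.image_insert]
  have hmem := h (g⁻¹ p) (g⁻¹ q) (g⁻¹ r) (g⁻¹ s) (hinj.ne h1) (hinj.ne h2) (hinj.ne h3)
    (hinj.ne h4) (hinj.ne h5) (hinj.ne h6) hY'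
  have hconj : g * (swap (g⁻¹ p) (g⁻¹ q) * swap (g⁻¹ r) (g⁻¹ s)) * g⁻¹ = swap p q * swap r s := by
    have e1 : g * swap (g⁻¹ p) (g⁻¹ q) * g⁻¹ = swap p q := by
      rw [← Equiv.swap_apply_apply]; simp
    have e2 : g * swap (g⁻¹ r) (g⁻¹ s) * g⁻¹ = swap r s := by
      rw [← Equiv.swap_apply_apply]; simp
    rw [← e1, ← e2]; group
  rw [← hconj]
  exact H.mul_mem (H.mul_mem hg hmem) (H.inv_mem hg)

/-! ### auxiliary facts (prefix `C1_`) -/

theorem C1_comm {α : Type*} [DecidableEq α] {x y z t : α} (hxy : x ≠ y) (hxz : x ≠ z)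
    (hxt : x ≠ t) (hyz : y ≠ z) (hyt : y ≠ t) (hzt : z ≠ t) :
    Commute (swap x y) (swap z t) :=
  (disjoint_swap_swap (by simp [hxy, hxz, hxt, hyz, hyt, hzt])).commute

theorem C1_alg1 {G : Type*} [Group G] (A C D F : G) (hA : A * A = 1) (hF : F * F = 1)
    (hAC : Commute A C) (hAD : Commute A D) (hAF : Commute A F) (hFC : Commute F C)
    (hFD : Commute F D) : (A * C * (D * F)) ^ 2 = (C * D) * (C * D) := by
  have hAu : Commute A (C * D) := hAC.mul_right hAD
  have hFu : Commute F (C * D) := hFC.mul_right hFD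
  have hvu : Commute (A * F) (C * D) := hAu.mul_left hFu
  have e1 : A * C * (D * F) = (A * F) * (C * D) := by
    calc A * C * (D * F) = A * ((C * D) * F) := by group
      _ = A * (F * (C * D)) := by rw [hFu.eq]
      _ = _ := by group
  rw [e1, hvu.mul_pow, hAF.mul_pow, sq A, sq F, hA, hF, one_mul, one_mul, sq]

theorem C1_alg2 {G : Type*} [Group G] (P Q R S : G) (hU : (P * R) ^ 3 = 1) (hV : (Q * S) ^ 3 = 1)
    (hPQ : Commute P Q) (hPS : Commute P S) (hRQ : Commute R Q) (hRS : Commute R S) :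
    (P * Q * (R * S)) ^ 3 = 1 := by
  have hUV : Commute (P * R) (Q * S) := (hPQ.mul_right hPS).mul_left (hRQ.mul_right hRS)
  have e1 : P * Q * (R * S) = (P * R) * (Q * S) := by
    calc P * Q * (R * S) = P * (Q * R) * S := by group
      _ = P * (R * Q) * S := by rw [hRQ.eq]
      _ = _ := by group
  rw [e1, hUV.mul_pow, hU, hV, one_mul]

theorem C1_card_sdiff {α : Type*} [DecidableEq α] (Y Y' : Finset α) :
    (Y \ Y').card + (Y ∩ Y').card = Y.card := Finset.card_sdiff_add_card_inter Y Y'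

theorem C1_threeCycle_inter_three {α : Type*} [Fintype α] [DecidableEq α]
    {H : Subgroup (Perm α)} {Y Y' : Finset α} (hY : HasKlein H Y) (hY' : HasKlein H Y')
    (hc : Y.card = 4) (hc' : Y'.card = 4) (h : (Y ∩ Y').card = 3) :
    ∃ g ∈ H, g.IsThreeCycle := by
  obtain ⟨b, c, d, hbc, hbd, hcd, hI⟩ := Finset.card_eq_three.mp h
  have h1 : (Y \ Y').card = 1 := by
    have := C1_card_sdiff Y Y'
    omega
  have h1' : (Y' \ Y).card = 1 := by
    have := C1_card_sdiff Y' Y
    rw [Finset.inter_comm] at this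
    omega
  obtain ⟨a, ha⟩ := Finset.card_eq_one.mp h1
  obtain ⟨e, he⟩ := Finset.card_eq_one.mp h1'
  have haY : a ∈ Y \ Y' := by rw [ha]; exact Finset.mem_singleton_self a
  have heY : e ∈ Y' \ Y := by rw [he]; exact Finset.mem_singleton_self e
  rw [Finset.mem_sdiff] at haY heY
  have hbI : b ∈ Y ∩ Y' := by rw [hI]; simp
  have hcI : c ∈ Y ∩ Y' := by rw [hI]; simp
  have hdI : d ∈ Y ∩ Y' := by rw [hI]; simp
  rw [Finset.mem_inter] at hbI hcI hdI
  have hab : a ≠ b := fun h => haY.2 (h ▸ hbI.2)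
  have hac : a ≠ c := fun h => haY.2 (h ▸ hcI.2)
  have had : a ≠ d := fun h => haY.2 (h ▸ hdI.2)
  have heb : e ≠ b := fun h => heY.2 (h ▸ hbI.1)
  have hec : e ≠ c := fun h => heY.2 (h ▸ hcI.1)
  have hed : e ≠ d := fun h => heY.2 (h ▸ hdI.1)
  have hae : a ≠ e := fun h => haY.2 (h ▸ heY.1)
  have hYeq : ({a, b, c, d} : Finset α) = Y := by
    rw [← Finset.sdiff_union_inter Y Y', ha, hI]; rfl
  have hY'eq : ({e, b, c, d} : Finset α) = Y' := by
    rw [← Finset.sdiff_union_inter Y' Y, he, Finset.inter_comm, hI]; rfl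
  have m1 := hY a b c d hab hac had hbc hbd hcd hYeq
  have m2 := hY' e b c d heb hec hed hbc hbd hcd hY'eq
  refine ⟨swap a b * swap c d * (swap e b * swap c d), H.mul_mem m1 m2, ?_⟩
  have hcomm : Commute (swap c d) (swap e b) := C1_comm hcd hec.symm hbc.symm hed.symm hbd.symm heb
  have hrw : swap a b * swap c d * (swap e b * swap c d) = swap b a * swap b e := by
    rw [swap_comm a b, swap_comm b e]
    calc swap b a * swap c d * (swap e b * swap c d)
        = swap b a * (swap c d * swap e b) * swap c d := by group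
      _ = swap b a * (swap e b * swap c d) * swap c d := by rw [hcomm.eq]
      _ = swap b a * swap e b * (swap c d * swap c d) := by group
      _ = _ := by rw [swap_mul_self, mul_one]
  rw [hrw]
  exact isThreeCycle_swap_mul_swap_same hab.symm heb.symm hae

theorem C1_threeCycle_inter_one {α : Type*} [Fintype α] [DecidableEq α]
    {H : Subgroup (Perm α)} {Y Y' : Finset α} (hY : HasKlein H Y) (hY' : HasKlein H Y')
    (hc : Y.card = 4) (hc' : Y'.card = 4) (h : (Y ∩ Y').card = 1) :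
    ∃ g ∈ H, g.IsThreeCycle := by
  obtain ⟨d, hI⟩ := Finset.card_eq_one.mp h
  have h1 : (Y \ Y').card = 3 := by
    have := C1_card_sdiff Y Y'
    omega
  have h1' : (Y' \ Y).card = 3 := by
    have := C1_card_sdiff Y' Y
    rw [Finset.inter_comm] at this
    omega
  obtain ⟨a, b, c, hab, hac, hbc, hS⟩ := Finset.card_eq_three.mp h1
  obtain ⟨e, f, g, hef, heg, hfg, hS'⟩ := Finset.card_eq_three.mp h1'
  have haY : a ∈ Y \ Y' := by rw [hS]; simp
  have hbY : b ∈ Y \ Y' := by rw [hS]; simp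
  have hcY : c ∈ Y \ Y' := by rw [hS]; simp
  have heY : e ∈ Y' \ Y := by rw [hS']; simp
  have hfY : f ∈ Y' \ Y := by rw [hS']; simp
  have hgY : g ∈ Y' \ Y := by rw [hS']; simp
  rw [Finset.mem_sdiff] at haY hbY hcY heY hfY hgY
  have hdI : d ∈ Y ∩ Y' := by rw [hI]; simp
  rw [Finset.mem_inter] at hdI
  have had : a ≠ d := fun h => haY.2 (h ▸ hdI.2)
  have hbd : b ≠ d := fun h => hbY.2 (h ▸ hdI.2)
  have hcd : c ≠ d := fun h => hcY.2 (h ▸ hdI.2)
  have hde : d ≠ e := fun h => heY.2 (h ▸ hdI.1)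
  have hdf : d ≠ f := fun h => hfY.2 (h ▸ hdI.1)
  have hdg : d ≠ g := fun h => hgY.2 (h ▸ hdI.1)
  have hae : a ≠ e := fun h => haY.2 (h ▸ heY.1)
  have haf : a ≠ f := fun h => haY.2 (h ▸ hfY.1)
  have hag : a ≠ g := fun h => haY.2 (h ▸ hgY.1)
  have hbe : b ≠ e := fun h => hbY.2 (h ▸ heY.1)
  have hbf : b ≠ f := fun h => hbY.2 (h ▸ hfY.1)
  have hbg : b ≠ g := fun h => hbY.2 (h ▸ hgY.1)
  have hce : c ≠ e := fun h => hcY.2 (h ▸ heY.1)
  have hcf : c ≠ f := fun h => hcY.2 (h ▸ hfY.1)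
  have hcg : c ≠ g := fun h => hcY.2 (h ▸ hgY.1)
  have hYeq : ({a, b, c, d} : Finset α) = Y := by
    rw [← Finset.sdiff_union_inter Y Y', hS, hI]
    ext x; simp only [Finset.mem_insert, Finset.mem_singleton, Finset.mem_union]; tauto
  have hY'eq : ({d, e, f, g} : Finset α) = Y' := by
    rw [← Finset.sdiff_union_inter Y' Y, hS', Finset.inter_comm, hI]
    ext x; simp only [Finset.mem_insert, Finset.mem_singleton, Finset.mem_union]; tauto
  have m1 := hY a b c d hab hac had hbc hbd hcd hYeq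
  have m2 := hY' d e f g hde hdf hdg hef heg hfg hY'eq
  refine ⟨(swap a b * swap c d * (swap d e * swap f g)) ^ 2, H.pow_mem (H.mul_mem m1 m2) 2, ?_⟩
  rw [C1_alg1 (swap a b) (swap c d) (swap d e) (swap f g) (swap_mul_self a b) (swap_mul_self f g)
    (C1_comm hab hac had hbc hbd hcd) (C1_comm hab had hae hbd hbe hde)
    (C1_comm hab haf hag hbf hbg hfg) (C1_comm hfg hcf.symm hdf.symm hcg.symm hdg.symm hcd)
    (C1_comm hfg hdf.symm hef.symm hdg.symm heg.symm hde)]
  rw [swap_comm c d]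
  exact (isThreeCycle_swap_mul_swap_same hcd.symm hde hce).isThreeCycle_sq

theorem HasKlein.threeCycle_of_inter_odd {α : Type*} [Fintype α] [DecidableEq α]
    {H : Subgroup (Perm α)} {Y Y' : Finset α} (hY : HasKlein H Y) (hY' : HasKlein H Y')
    (hc : Y.card = 4) (hc' : Y'.card = 4) (h : (Y ∩ Y').card = 1 ∨ (Y ∩ Y').card = 3) :
    ∃ g ∈ H, g.IsThreeCycle := by
  rcases h with h | h
  · exact C1_threeCycle_inter_one hY hY' hc hc' h
  · exact C1_threeCycle_inter_three hY hY' hc hc' h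

theorem HasKlein.order_three_of_inter_two {α : Type*} [Fintype α] [DecidableEq α]
    {H : Subgroup (Perm α)} {Y Y' : Finset α} (hY : HasKlein H Y) (hY' : HasKlein H Y')
    (hc : Y.card = 4) (hc' : Y'.card = 4) (h : (Y ∩ Y').card = 2) :
    ∃ g ∈ H, orderOf g = 3 := by
  obtain ⟨c, d, hcd, hI⟩ := Finset.card_eq_two.mp h
  have h1 : (Y \ Y').card = 2 := by
    have := C1_card_sdiff Y Y'
    omega
  have h1' : (Y' \ Y).card = 2 := by
    have := C1_card_sdiff Y' Y
    rw [Finset.inter_comm] at this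
    omega
  obtain ⟨a, b, hab, hS⟩ := Finset.card_eq_two.mp h1
  obtain ⟨e, f, hef, hS'⟩ := Finset.card_eq_two.mp h1'
  have haY : a ∈ Y \ Y' := by rw [hS]; simp
  have hbY : b ∈ Y \ Y' := by rw [hS]; simp
  have heY : e ∈ Y' \ Y := by rw [hS']; simp
  have hfY : f ∈ Y' \ Y := by rw [hS']; simp
  rw [Finset.mem_sdiff] at haY hbY heY hfY
  have hcI : c ∈ Y ∩ Y' := by rw [hI]; simp
  have hdI : d ∈ Y ∩ Y' := by rw [hI]; simp
  rw [Finset.mem_inter] at hcI hdI
  have hac : a ≠ c := fun h => haY.2 (h ▸ hcI.2)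
  have had : a ≠ d := fun h => haY.2 (h ▸ hdI.2)
  have hbc : b ≠ c := fun h => hbY.2 (h ▸ hcI.2)
  have hbd : b ≠ d := fun h => hbY.2 (h ▸ hdI.2)
  have hce : c ≠ e := fun h => heY.2 (h ▸ hcI.1)
  have hcf : c ≠ f := fun h => hfY.2 (h ▸ hcI.1)
  have hde : d ≠ e := fun h => heY.2 (h ▸ hdI.1)
  have hdf : d ≠ f := fun h => hfY.2 (h ▸ hdI.1)
  have hae : a ≠ e := fun h => haY.2 (h ▸ heY.1)
  have haf : a ≠ f := fun h => haY.2 (h ▸ hfY.1)
  have hbe : b ≠ e := fun h => hbY.2 (h ▸ heY.1)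
  have hbf : b ≠ f := fun h => hbY.2 (h ▸ hfY.1)
  have hYeq : ({a, c, b, d} : Finset α) = Y := by
    rw [← Finset.sdiff_union_inter Y Y', hS, hI]
    ext x; simp only [Finset.mem_insert, Finset.mem_singleton, Finset.mem_union]; tauto
  have hY'eq : ({c, e, d, f} : Finset α) = Y' := by
    rw [← Finset.sdiff_union_inter Y' Y, hS', Finset.inter_comm, hI]
    ext x; simp only [Finset.mem_insert, Finset.mem_singleton, Finset.mem_union]; tauto
  have m1 := hY a c b d hac hab had hbc.symm hcd hbd hYeq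
  have m2 := hY' c e d f hce hcd hcf hde.symm hef hdf hY'eq
  refine ⟨swap a c * swap b d * (swap c e * swap d f), H.mul_mem m1 m2, ?_⟩
  have : Fact (Nat.Prime 3) := ⟨Nat.prime_three⟩
  apply orderOf_eq_prime
  · apply C1_alg2
    · rw [swap_comm a c, ← (isThreeCycle_swap_mul_swap_same hac.symm hce hae).orderOf]
      exact pow_orderOf_eq_one _
    · rw [swap_comm b d, ← (isThreeCycle_swap_mul_swap_same hbd.symm hdf hbf).orderOf]
      exact pow_orderOf_eq_one _
    · exact C1_comm hac hab had hbc.symm hcd hbd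
    · exact C1_comm hac had haf hcd hcf hdf
    · exact C1_comm hce hbc.symm hcd hbe.symm hde.symm hbd
    · exact C1_comm hce hcd hcf hde.symm hef hdf
  · intro h1
    have := congrArg (fun σ : Perm α => σ a) h1
    simp only [Perm.mul_apply, Perm.one_apply] at this
    rw [swap_apply_of_ne_of_ne had haf, swap_apply_of_ne_of_ne hac hae,
      swap_apply_of_ne_of_ne hab had, swap_apply_left] at this
    exact hac this.symm

theorem HasKlein.eq_or_disjoint {α : Type*} [Fintype α] [DecidableEq α]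
    {H : Subgroup (Perm α)} (hH : IsPGroup 2 H) {Y Y' : Finset α} (hY : HasKlein H Y)
    (hY' : HasKlein H Y') (hc : Y.card = 4) (hc' : Y'.card = 4) : Y = Y' ∨ Disjoint Y Y' := by
  have hno3 : ∀ g ∈ H, orderOf g ≠ 3 := by
    intro g hg h3
    obtain ⟨k, hk⟩ := hH ⟨g, hg⟩
    have hk' : g ^ 2 ^ k = 1 := by
      have := congrArg Subtype.val hk
      simpa using this
    have hdvd : 3 ∣ 2 ^ k := h3 ▸ orderOf_dvd_of_pow_eq_one hk'
    have := (Nat.Prime.dvd_of_dvd_pow Nat.prime_three hdvd)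
    omega
  have hle : (Y ∩ Y').card ≤ 4 := hc ▸ Finset.card_le_card Finset.inter_subset_left
  have hcases : (Y ∩ Y').card = 0 ∨ (Y ∩ Y').card = 1 ∨ (Y ∩ Y').card = 2 ∨ (Y ∩ Y').card = 3 ∨
      (Y ∩ Y').card = 4 := by omega
  rcases hcases with h | h | h | h | h
  · right
    rw [Finset.disjoint_iff_inter_eq_empty]
    exact Finset.card_eq_zero.mp h
  · exfalso
    obtain ⟨g, hg, h3⟩ := hY.threeCycle_of_inter_odd hY' hc hc' (Or.inl h)
    exact hno3 g hg h3.orderOf
  · exfalso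
    obtain ⟨g, hg, h3⟩ := hY.order_three_of_inter_two hY' hc hc' h
    exact hno3 g hg h3
  · exfalso
    obtain ⟨g, hg, h3⟩ := hY.threeCycle_of_inter_odd hY' hc hc' (Or.inr h)
    exact hno3 g hg h3.orderOf
  · left
    have e1 : Y ∩ Y' = Y := Finset.eq_of_subset_of_card_le Finset.inter_subset_left (by omega)
    have e2 : Y ∩ Y' = Y' := Finset.eq_of_subset_of_card_le Finset.inter_subset_right (by omega)
    rw [← e1]; nth_rewrite 2 [← e2]; rfl

end Cfsg.Agent.S2245L
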