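import Mathlib
import Cfsg.Agent.Lib.S2245.C1

set_option autoImplicit false
open Equiv Equiv.Perm MulAction
open scoped Pointwise

namespace Cfsg.Agent.S2245L

/-! ## Piece C2 : parity trick (helper6) -/

/-- C2 aux: a point fixed by `P` does not lie in a Klein 4-set of `P`. -/
theorem c2_not_mem {α : Type*} [DecidableEq α] (P : Subgroup (Perm α)) (a : α)
    (hfix : ∀ r ∈ P, r a = a) (Y : Finset α) (hc : Y.card = 4) (hY : HasKlein P Y) : a ∉ Y := by
  intro ha
  have h3 : (Y.erase a).card = 3 := by rw [Finset.card_erase_of_mem ha, hc]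
  obtain ⟨q, r, s, hqr, hqs, hrs, hE⟩ := Finset.card_eq_three.mp h3
  have hq : q ∈ Y.erase a := by rw [hE]; simp
  have hr : r ∈ Y.erase a := by rw [hE]; simp
  have hs : s ∈ Y.erase a := by rw [hE]; simp
  have haq : a ≠ q := (Finset.ne_of_mem_erase hq).symm
  have har : a ≠ r := (Finset.ne_of_mem_erase hr).symm
  have has : a ≠ s := (Finset.ne_of_mem_erase hs).symm
  have hYeq : ({a, q, r, s} : Finset α) = Y := by
    rw [← Finset.insert_erase ha, hE]
  have hmem := hY a q r s haq har has hqr hqs hrs hYeq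
  have := hfix _ hmem
  rw [Perm.mul_apply, Equiv.swap_apply_of_ne_of_ne har has, Equiv.swap_apply_left] at this
  exact haq this.symm

theorem exists_threeCycle_of_hasKlein {α : Type*} [Fintype α] [DecidableEq α]
    (P M : Subgroup (Perm α)) (hPM : P ≤ M) (hP : IsPGroup 2 P) (a : α)
    (hfix : ∀ r ∈ P, r a = a) (htr : ∀ x y : α, x ≠ a → y ≠ a → ∃ r ∈ P, r x = y)
    (Y : Finset α) (hc : Y.card = 4) (hY : HasKlein P Y)
    (hMt : ∀ x y : α, ∃ g ∈ M, g x = y) : ∃ g ∈ M, g.IsThreeCycle := by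
  classical
  have haY : a ∉ Y := c2_not_mem P a hfix Y hc hY
  have hne : Y.Nonempty := by rw [← Finset.card_pos, hc]; norm_num
  obtain ⟨y₀, hy₀⟩ := hne
  have hy₀a : y₀ ≠ a := fun h => haY (h ▸ hy₀)
  obtain ⟨g, hgM, hga⟩ := hMt a y₀
  have hEc : (Y.erase y₀).card = 3 := by rw [Finset.card_erase_of_mem hy₀, hc]
  -- choose r_y
  have hch : ∀ y ∈ Y.erase y₀, ∃ r ∈ P, r y₀ = g⁻¹ y := by
    intro y hy
    have hyy₀ : y ≠ y₀ := Finset.ne_of_mem_erase hy
    refine htr y₀ (g⁻¹ y) hy₀a ?_
    intro h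
    apply hyy₀
    rw [← hga, ← h]; simp
  choose! r hrP hr using hch
  have hZK : ∀ y ∈ Y.erase y₀, HasKlein M ((Y.image (r y)).image g) := fun y hy =>
    (((hY.image (r y) (hrP y hy)).mono hPM).image g hgM)
  have hZc : ∀ y, ((Y.image (r y)).image g).card = 4 := by
    intro y
    rw [Finset.card_image_of_injective _ g.injective,
      Finset.card_image_of_injective _ (r y).injective, hc]
  have hyZ : ∀ y ∈ Y.erase y₀, y ∈ (Y.image (r y)).image g := by
    intro y hy
    simp only [Finset.mem_image]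
    exact ⟨r y y₀, ⟨y₀, hy₀, rfl⟩, by rw [hr y hy]; simp⟩
  have hy₀Z : ∀ y ∈ Y.erase y₀, y₀ ∉ (Y.image (r y)).image g := by
    intro y hy h
    simp only [Finset.mem_image] at h
    obtain ⟨w, ⟨v, hv, rfl⟩, hw⟩ := h
    have h1 : r y v = a := g.injective (hw.trans hga.symm)
    have h2 : r y a = a := hfix _ (hrP y hy)
    have h3 : v = a := (r y).injective (h1.trans h2.symm)
    exact haY (h3 ▸ hv)
  have hKM : HasKlein M Y := hY.mono hPM
  have hsub : ∀ y ∈ Y.erase y₀, Y ∩ (Y.image (r y)).image g ⊆ Y.erase y₀ := by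
    intro y hy w hw
    rw [Finset.mem_inter] at hw
    rw [Finset.mem_erase]
    refine ⟨?_, hw.1⟩
    rintro rfl
    exact hy₀Z y hy hw.2
  by_cases hodd : ∃ y ∈ Y.erase y₀, (Y ∩ (Y.image (r y)).image g).card = 1 ∨
      (Y ∩ (Y.image (r y)).image g).card = 3
  · obtain ⟨y, hy, h⟩ := hodd
    exact HasKlein.threeCycle_of_inter_odd hKM (hZK y hy) hc (hZc y) h
  · exfalso
    push Not at hodd
    have h2 : ∀ y ∈ Y.erase y₀, (Y ∩ (Y.image (r y)).image g).card = 2 := by
      intro y hy
      have hle : (Y ∩ (Y.image (r y)).image g).card ≤ 3 :=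
        hEc ▸ Finset.card_le_card (hsub y hy)
      have hpos : 1 ≤ (Y ∩ (Y.image (r y)).image g).card :=
        Finset.card_pos.mpr ⟨y, Finset.mem_inter.mpr ⟨Finset.mem_of_mem_erase hy, hyZ y hy⟩⟩
      have := hodd y hy
      omega
    have hZeq : ∀ y ∈ Y.erase y₀, ∀ y' ∈ Y.erase y₀,
        (Y.image (r y)).image g = (Y.image (r y')).image g := by
      intro y hy y' hy'
      have hun : ((Y ∩ (Y.image (r y)).image g) ∪ (Y ∩ (Y.image (r y')).image g)).card ≤ 3 :=
        hEc ▸ Finset.card_le_card (Finset.union_subset (hsub y hy) (hsub y' hy'))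
      have hui := Finset.card_union_add_card_inter (Y ∩ (Y.image (r y)).image g)
        (Y ∩ (Y.image (r y')).image g)
      have hpos : 0 < ((Y ∩ (Y.image (r y)).image g) ∩ (Y ∩ (Y.image (r y')).image g)).card := by
        rw [h2 y hy, h2 y' hy'] at hui; omega
      obtain ⟨w, hw⟩ := Finset.card_pos.mp hpos
      simp only [Finset.mem_inter] at hw
      have hw1 : w ∈ (Y.image (r y)).image g := hw.1.2
      have hw2 : w ∈ (Y.image (r y')).image g := hw.2.2
      have hK1 : HasKlein P (Y.image (r y)) := hY.image (r y) (hrP y hy)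
      have hK2 : HasKlein P (Y.image (r y')) := hY.image (r y') (hrP y' hy')
      have hc1 : (Y.image (r y)).card = 4 := by
        rw [Finset.card_image_of_injective _ (r y).injective, hc]
      have hc2 : (Y.image (r y')).card = 4 := by
        rw [Finset.card_image_of_injective _ (r y').injective, hc]
      rcases HasKlein.eq_or_disjoint hP hK1 hK2 hc1 hc2 with heq | hdis
      · rw [heq]
      · exfalso
        rw [Finset.mem_image] at hw1 hw2
        obtain ⟨u1, hu1, hu1w⟩ := hw1
        obtain ⟨u2, hu2, hu2w⟩ := hw2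
        have : u1 = u2 := g.injective (hu1w.trans hu2w.symm)
        subst this
        exact Finset.disjoint_left.mp hdis hu1 hu2
    obtain ⟨y₁, hy₁⟩ : (Y.erase y₀).Nonempty := by rw [← Finset.card_pos, hEc]; norm_num
    have hEsub : Y.erase y₀ ⊆ Y ∩ (Y.image (r y₁)).image g := by
      intro y hy
      rw [Finset.mem_inter]
      exact ⟨Finset.mem_of_mem_erase hy, hZeq y hy y₁ hy₁ ▸ hyZ y hy⟩
    have := Finset.card_le_card hEsub
    rw [hEc, h2 y₁ hy₁] at this
    omega

end Cfsg.Agent.S2245L
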