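import Mathlib
import Cfsg.Agent.H9.Basic
import Cfsg.Agent.Lib.S2245.C1
import Cfsg.Agent.Lib.S2245.C2

set_option autoImplicit false
open Equiv Equiv.Perm MulAction
open scoped Pointwise

namespace Cfsg.Agent.S2245L

/-! ## Piece C3 : a Klein four-group inside a Sylow 2-subgroup of A_n; Jordan input for Alt -/

set_option maxRecDepth 100000 in
theorem C3_k4_mul : ∀ a b : Perm (Fin 4), (a * a = 1 ∧ Perm.sign a = 1) →
    (b * b = 1 ∧ Perm.sign b = 1) → ((a * b) * (a * b) = 1 ∧ Perm.sign (a * b) = 1) := by decide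

set_option maxRecDepth 100000 in
theorem C3_k4_swap : ∀ p q r s : Fin 4, p ≠ q → p ≠ r → p ≠ s → q ≠ r → q ≠ s → r ≠ s →
    ((swap p q * swap r s) * (swap p q * swap r s) = 1 ∧
      Perm.sign (swap p q * swap r s) = 1) := by decide

/-- The Klein four-group inside `Perm (Fin 4)`: even permutations of square one. -/
def C3_K4 : Subgroup (Perm (Fin 4)) where
  carrier := {σ | σ * σ = 1 ∧ Perm.sign σ = 1}
  mul_mem' := fun {a b} ha hb => C3_k4_mul a b ha hb
  one_mem' := by simp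
  inv_mem' := by
    intro a ha
    have h : a⁻¹ = a := inv_eq_of_mul_eq_one_left ha.1
    show a⁻¹ * a⁻¹ = 1 ∧ Perm.sign a⁻¹ = 1
    rw [h]
    exact ha

/-- `viaEmbedding` maps swaps to swaps. -/
theorem C3_viaEmbedding_swap {α β : Type*} [DecidableEq α] [DecidableEq β] (ι : α ↪ β) (x y : α) :
    (swap x y).viaEmbedding ι = swap (ι x) (ι y) := by
  apply Equiv.ext
  intro z
  by_cases hz : z ∈ Set.range ι
  · obtain ⟨w, rfl⟩ := hz
    rw [viaEmbedding_apply]
    exact (ι.injective.swap_apply x y w).symm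
  · rw [viaEmbedding_apply_of_notMem _ _ _ hz]
    have h1 : z ≠ ι x := fun h => hz ⟨x, h.symm⟩
    have h2 : z ≠ ι y := fun h => hz ⟨y, h.symm⟩
    exact (swap_apply_of_ne_of_ne h1 h2).symm

theorem C3_sign_viaEmbedding {α β : Type*} [DecidableEq α] [DecidableEq β] [Fintype α] [Fintype β]
    (ι : α ↪ β) (e : Perm α) : Perm.sign (e.viaEmbedding ι) = Perm.sign e := by
  unfold viaEmbedding
  exact @sign_extendDomain α _ β _ _ _ e _ (fun a => Classical.propDecidable _) (ofInjective ι.1 ι.2)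

theorem exists_hasKlein_sylow_alt (n : ℕ) (hn : 4 ≤ n) (R : Sylow 2 ↥(alternatingGroup (Fin n))) :
    ∃ Y : Finset (Fin n), Y.card = 4 ∧
      HasKlein ((R : Subgroup ↥(alternatingGroup (Fin n))).map (alternatingGroup (Fin n)).subtype) Y := by
  classical
  have : Fact (Nat.Prime 2) := ⟨Nat.prime_two⟩
  let ι : Fin 4 ↪ Fin n := Fin.castLEEmb hn
  let Φ : Perm (Fin 4) →* Perm (Fin n) := viaEmbeddingHom ι
  let V : Subgroup (Perm (Fin n)) := C3_K4.map Φ
  have hVP : IsPGroup 2 V := by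
    rintro ⟨v, σ, hσ, rfl⟩
    refine ⟨1, ?_⟩
    apply Subtype.ext
    simp only [pow_one, Subgroup.coe_pow, Subgroup.coe_one]
    rw [pow_two, ← map_mul, hσ.1, map_one]
  have hVA : V ≤ alternatingGroup (Fin n) := by
    rintro _ ⟨σ, hσ, rfl⟩
    rw [mem_alternatingGroup]
    show Perm.sign (σ.viaEmbedding ι) = 1
    rw [C3_sign_viaEmbedding]
    exact hσ.2
  obtain ⟨g, -, hg⟩ := Cfsg.Agent.H9.exists_conj_mem_sylow_of_le R ⊤ le_top
    (V.subgroupOf (alternatingGroup (Fin n))) hVP.comap_subtype le_top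
  refine ⟨(Finset.univ.image ι).image (g : Perm (Fin n)), ?_, ?_⟩
  · rw [Finset.card_image_of_injective _ (g : Perm (Fin n)).injective,
      Finset.card_image_of_injective _ ι.injective]
    simp
  · intro p q r s h1 h2 h3 h4 h5 h6 hY
    have hmemY : ∀ x ∈ ({p, q, r, s} : Finset (Fin n)), ∃ x' : Fin 4, x = (g : Perm (Fin n)) (ι x') := by
      intro x hx
      rw [hY] at hx
      obtain ⟨y, hy, rfl⟩ := Finset.mem_image.1 hx
      obtain ⟨x', -, rfl⟩ := Finset.mem_image.1 hy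
      exact ⟨x', rfl⟩
    obtain ⟨p', rfl⟩ := hmemY p (by simp)
    obtain ⟨q', rfl⟩ := hmemY q (by simp)
    obtain ⟨r', rfl⟩ := hmemY r (by simp)
    obtain ⟨s', rfl⟩ := hmemY s (by simp)
    have hk := C3_k4_swap p' q' r' s' (fun h => h1 (by rw [h])) (fun h => h2 (by rw [h]))
      (fun h => h3 (by rw [h])) (fun h => h4 (by rw [h])) (fun h => h5 (by rw [h]))
      (fun h => h6 (by rw [h]))
    have hk' : swap p' q' * swap r' s' ∈ C3_K4 := hk
    have hΦ : Φ (swap p' q' * swap r' s') = swap (ι p') (ι q') * swap (ι r') (ι s') := by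
      rw [map_mul]
      show (swap p' q').viaEmbedding ι * (swap r' s').viaEmbedding ι = _
      rw [C3_viaEmbedding_swap, C3_viaEmbedding_swap]
    have hv : Φ (swap p' q' * swap r' s') ∈ V := ⟨_, hk', rfl⟩
    have hmem := hg ⟨Φ (swap p' q' * swap r' s'), hVA hv⟩ (by
      rw [Subgroup.mem_subgroupOf]
      exact hv)
    refine ⟨_, hmem, ?_⟩
    show (g : Perm (Fin n)) * Φ (swap p' q' * swap r' s') * (g : Perm (Fin n))⁻¹ = _
    rw [hΦ]
    have e1 : (g : Perm (Fin n)) * swap (ι p') (ι q') * (g : Perm (Fin n))⁻¹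
        = swap ((g : Perm (Fin n)) (ι p')) ((g : Perm (Fin n)) (ι q')) :=
      (Equiv.swap_apply_apply _ _ _).symm
    have e2 : (g : Perm (Fin n)) * swap (ι r') (ι s') * (g : Perm (Fin n))⁻¹
        = swap ((g : Perm (Fin n)) (ι r')) ((g : Perm (Fin n)) (ι s')) :=
      (Equiv.swap_apply_apply _ _ _).symm
    rw [← e1, ← e2]
    group

theorem alt_primitive_eq_top (n : ℕ) (hn : 5 ≤ n) (R : Sylow 2 ↥(alternatingGroup (Fin n)))
    (M : Subgroup ↥(alternatingGroup (Fin n))) (a : Fin n)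
    (hRM : (R : Subgroup ↥(alternatingGroup (Fin n))) ≤ M)
    (hfix : ∀ r ∈ (R : Subgroup ↥(alternatingGroup (Fin n))), r • a = a)
    (htr : ∀ x y : Fin n, x ≠ a → y ≠ a → ∃ r ∈ (R : Subgroup ↥(alternatingGroup (Fin n))), r • x = y)
    (hprim : IsPreprimitive M (Fin n)) : M = ⊤ := by
  classical
  obtain ⟨Y, hc, hY⟩ := exists_hasKlein_sylow_alt n (by omega) R
  set P : Subgroup (Perm (Fin n)) :=
    (R : Subgroup ↥(alternatingGroup (Fin n))).map (alternatingGroup (Fin n)).subtype with hPdef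
  set M' : Subgroup (Perm (Fin n)) := M.map (alternatingGroup (Fin n)).subtype with hM'def
  have hPM : P ≤ M' := Subgroup.map_mono hRM
  have hP : IsPGroup 2 P := R.isPGroup'.map _
  have hfix' : ∀ r ∈ P, r a = a := by
    rintro _ ⟨r, hr, rfl⟩
    exact hfix r hr
  have htr' : ∀ x y : Fin n, x ≠ a → y ≠ a → ∃ r ∈ P, r x = y := by
    intro x y hx hy
    obtain ⟨r, hr, hrx⟩ := htr x y hx hy
    exact ⟨_, ⟨r, hr, rfl⟩, hrx⟩
  have hMt : ∀ x y : Fin n, ∃ g ∈ M', g x = y := by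
    intro x y
    have := hprim.toIsPretransitive
    obtain ⟨g, hg⟩ := MulAction.exists_smul_eq (↥M) x y
    exact ⟨_, ⟨(g : ↥(alternatingGroup (Fin n))), g.2, rfl⟩, hg⟩
  obtain ⟨g, hg, hg3⟩ := exists_threeCycle_of_hasKlein P M' hPM hP a hfix' htr' Y hc hY hMt
  rw [eq_top_iff, ← Subgroup.map_subtype_le_map_subtype,
    ← MonoidHom.range_eq_map, Subgroup.range_subtype]
  apply alternatingGroup_le_of_isPreprimitive_of_isThreeCycle_mem _ hg3 hg
  let φ := (alternatingGroup (Fin n)).subtype.subgroupMap M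
  let f : Fin n →ₑ[φ] Fin n := {
    toFun := id
    map_smul' _ _ := rfl }
  rwa [← isPreprimitive_congr (f := f) ((alternatingGroup (Fin n)).subtype.subgroupMap_surjective M)
    Function.bijective_id]

end Cfsg.Agent.S2245L
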