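import Mathlib

set_option autoImplicit false
open Equiv Equiv.Perm MulAction
open scoped Pointwise

namespace Cfsg.Agent.S2245L

/-- The orbit of a point under a subgroup `R` is stabilized (as a set) by `R`. -/
theorem DF_le_stabilizer_orbit {G : Type*} [Group G] {α : Type*} [MulAction G α]
    (R : Subgroup G) (x : α) : R ≤ stabilizer G (orbit ↥R x : Set α) := by
  have key : ∀ r ∈ R, ∀ y ∈ orbit ↥R x, r • y ∈ orbit ↥R x := by
    intro r hr y hy
    exact MulAction.mem_orbit_of_mem_orbit (⟨r, hr⟩ : ↥R) hy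
  intro r hr
  rw [mem_stabilizer_iff]
  ext y
  rw [Set.mem_smul_set_iff_inv_smul_mem]
  constructor
  · intro h
    have := key r hr _ h
    rwa [smul_inv_smul] at this
  · intro h
    exact key r⁻¹ (R.inv_mem hr) y h

/-- The orbit of a point under a 2-subgroup has cardinality a power of two. -/
theorem DF_ncard_orbit {G : Type*} [Group G] {α : Type*} [Finite α] [MulAction G α]
    (R : Subgroup G) (hR : IsPGroup 2 R) (x : α) :
    ∃ c : ℕ, (orbit ↥R x : Set α).ncard = 2 ^ c := by
  have : Fact (Nat.Prime 2) := ⟨Nat.prime_two⟩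
  obtain ⟨c, hc⟩ := hR.card_orbit x
  exact ⟨c, by rw [← hc, ← Nat.card_coe_set_eq]⟩

theorem forward_odd {G : Type*} [Group G] {α : Type*} [Fintype α] [DecidableEq α] [MulAction G α]
    (hco : ∀ s : Set α, s.Nonempty → sᶜ.Nonempty → Nat.card α ≠ 2 * s.ncard →
      IsCoatom (stabilizer G s))
    (h2 : ∀ a x z : α, a ≠ x → a ≠ z → ∃ g : G, g • a = a ∧ g • x = z)
    (R : Subgroup G) (hR : IsPGroup 2 R) (hodd : Odd (Fintype.card α))
    (h3 : 3 ≤ Fintype.card α) (hpow : ∀ m, Fintype.card α ≠ 2 ^ m + 1)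
    (M : Subgroup G) (hM : IsCoatom M) (hRM : R ≤ M)
    (huniq : ∀ M' : Subgroup G, IsCoatom M' → R ≤ M' → M' = M) : False := by
  have : Fact (Nat.Prime 2) := ⟨Nat.prime_two⟩
  have hcard : Nat.card α = Fintype.card α := Nat.card_eq_fintype_card
  have hne2 : ∀ k : ℕ, Nat.card α ≠ 2 * k := by
    intro k hk
    obtain ⟨m, hm⟩ := hodd
    omega
  -- a fixed point of R
  have hnd : ¬ 2 ∣ Nat.card α := by
    intro h
    obtain ⟨k, hk⟩ := h
    exact hne2 k hk
  obtain ⟨a, ha⟩ := hR.nonempty_fixed_point_of_prime_not_dvd_card α hnd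
  have hfix : ∀ r ∈ R, r • a = a := fun r hr => ha ⟨r, hr⟩
  -- a point x ≠ a
  have hx : ∃ x : α, x ≠ a := by
    have : 1 < Fintype.card α := by omega
    exact Fintype.exists_ne_of_one_lt_card this a
  obtain ⟨x, hxa⟩ := hx
  -- stabilizer of {a} is M
  have hS1 : stabilizer G ({a} : Set α) = M := by
    apply huniq
    · apply hco
      · exact Set.singleton_nonempty a
      · exact ⟨x, by simpa using hxa⟩
      · rw [Set.ncard_singleton]; exact hne2 1
    · intro r hr
      rw [mem_stabilizer_iff, Set.smul_set_singleton, hfix r hr]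
  -- the orbit of x
  set O : Set α := orbit ↥R x with hO
  have hxO : x ∈ O := MulAction.mem_orbit_self x
  have haO : a ∉ O := by
    intro h
    obtain ⟨r, hr⟩ := h
    have h1 : (r : G) • x = a := hr
    have h2' : (r : G)⁻¹ • a = a := hfix _ (R.inv_mem r.2)
    have : x = a := by
      calc x = (r : G)⁻¹ • ((r : G) • x) := (inv_smul_smul _ _).symm
        _ = (r : G)⁻¹ • a := by rw [h1]
        _ = a := h2'
    exact hxa this
  obtain ⟨c, hc⟩ : ∃ c : ℕ, O.ncard = 2 ^ c := DF_ncard_orbit R hR x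
  -- stabilizer of O is M
  have hS2 : stabilizer G O = M := by
    apply huniq
    · apply hco
      · exact ⟨x, hxO⟩
      · exact ⟨a, haO⟩
      · exact hne2 _
    · exact DF_le_stabilizer_orbit R x
  -- a point z outside O ∪ {a}
  have hz : ∃ z : α, z ∉ O ∧ z ≠ a := by
    by_contra h
    push Not at h
    have huniv : insert a O = (Set.univ : Set α) := by
      ext z
      simp only [Set.mem_insert_iff, Set.mem_univ, iff_true]
      by_cases hzO : z ∈ O
      · exact Or.inr hzO
      · exact Or.inl (h z hzO)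
    have h1 : (insert a O).ncard = O.ncard + 1 :=
      Set.ncard_insert_of_notMem haO (Set.toFinite O)
    rw [huniv, Set.ncard_univ, hcard, hc] at h1
    exact hpow c h1
  obtain ⟨z, hzO, hza⟩ := hz
  obtain ⟨g, hga, hgx⟩ := h2 a x z (Ne.symm hxa) (Ne.symm hza)
  have hgM : g ∈ M := by
    rw [← hS1, mem_stabilizer_iff, Set.smul_set_singleton, hga]
  have hgO : g • O = O := by
    rw [← hS2] at hgM
    exact mem_stabilizer_iff.mp hgM
  have : g • x ∈ g • O := Set.smul_mem_smul_set hxO
  rw [hgO, hgx] at this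
  exact hzO this

theorem forward_nonpow {G : Type*} [Group G] [Finite G] {α : Type*} [Fintype α] [DecidableEq α]
    [MulAction G α]
    (hco : ∀ s : Set α, s.Nonempty → sᶜ.Nonempty → Nat.card α ≠ 2 * s.ncard →
      IsCoatom (stabilizer G s))
    (R : Subgroup G) (hR : IsPGroup 2 R) (hne : Nonempty α)
    (hpow : ∀ m, Fintype.card α ≠ 2 ^ m)
    (H : Subgroup G) (hRH : R ≤ H) (hH : H ≠ ⊤) (hHt : ∀ x y : α, ∃ g ∈ H, g • x = y)
    (M : Subgroup G) (hM : IsCoatom M) (hRM : R ≤ M)
    (huniq : ∀ M' : Subgroup G, IsCoatom M' → R ≤ M' → M' = M) : False := by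
  have hcard : Nat.card α = Fintype.card α := Nat.card_eq_fintype_card
  -- H lies in M
  have hHM : H ≤ M := by
    rcases eq_top_or_exists_le_coatom H with h | ⟨M', hM', hHM'⟩
    · exact absurd h hH
    · have := huniq M' hM' (hRH.trans hHM')
      rw [← this]; exact hHM'
  obtain ⟨x⟩ := hne
  set O : Set α := orbit ↥R x with hO
  have hxO : x ∈ O := MulAction.mem_orbit_self x
  obtain ⟨c, hc⟩ : ∃ c : ℕ, O.ncard = 2 ^ c := DF_ncard_orbit R hR x
  -- O is not everything
  have hy : ∃ y : α, y ∉ O := by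
    by_contra h
    push Not at h
    have huniv : O = (Set.univ : Set α) := Set.eq_univ_of_forall h
    rw [huniv, Set.ncard_univ, hcard] at hc
    exact hpow c hc
  obtain ⟨y, hyO⟩ := hy
  have hS : stabilizer G O = M := by
    apply huniq
    · apply hco
      · exact ⟨x, hxO⟩
      · exact ⟨y, hyO⟩
      · rw [hc, hcard]
        intro h
        exact hpow (c + 1) (by rw [h, pow_succ]; ring)
    · exact DF_le_stabilizer_orbit R x
  obtain ⟨g, hgH, hgx⟩ := hHt x y
  have hgM : g ∈ M := hHM hgH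
  have hgO : g • O = O := by
    rw [← hS] at hgM
    exact mem_stabilizer_iff.mp hgM
  have : g • x ∈ g • O := Set.smul_mem_smul_set hxO
  rw [hgO, hgx] at this
  exact hyO this

end Cfsg.Agent.S2245L
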