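import Mathlib

set_option autoImplicit false
open Equiv Equiv.Perm MulAction
open scoped Pointwise

namespace Cfsg.Agent.S2245L

/-- the number of permutations of `Fin (m+m)` of cycle type `2^m` is odd -/
theorem E_card_odd (m : ℕ) (hm : 0 < m) :
    ¬ 2 ∣ Nat.card {g : Perm (Fin (m + m)) // g.cycleType = Multiset.replicate m 2} := by
  classical
  have h := Equiv.Perm.card_of_cycleType_mul_eq (Fin (m + m)) (Multiset.replicate m 2)
  have hsum : (Multiset.replicate m 2).sum = m + m := by
    rw [Multiset.sum_replicate, smul_eq_mul]; ring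
  have hcond : (Multiset.replicate m 2).sum ≤ Fintype.card (Fin (m + m)) ∧
      ∀ a ∈ Multiset.replicate m 2, 2 ≤ a := by
    refine ⟨by rw [hsum, Fintype.card_fin], ?_⟩
    intro a ha
    rw [Multiset.eq_of_mem_replicate ha]
  rw [if_pos hcond, hsum, Fintype.card_fin, Nat.sub_self, Nat.factorial_zero, one_mul,
    Multiset.prod_replicate] at h
  have htf : (Multiset.replicate m 2).toFinset = {2} := by
    ext x
    simp only [Multiset.mem_toFinset, Multiset.mem_replicate, Finset.mem_singleton]
    constructor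
    · intro hx; exact hx.2
    · intro hx; exact ⟨hm.ne', hx⟩
  rw [htf, Finset.prod_singleton, Multiset.count_replicate_self] at h
  -- h : #X * (2^m * m!) = (m+m)!
  have hcard : Nat.card {g : Perm (Fin (m + m)) // g.cycleType = Multiset.replicate m 2} =
      (Finset.univ.filter fun g : Perm (Fin (m + m)) =>
        g.cycleType = Multiset.replicate m 2).card := by
    rw [Nat.card_eq_fintype_card, Fintype.card_subtype]
  rw [hcard]
  set N := (Finset.univ.filter fun g : Perm (Fin (m + m)) =>
        g.cycleType = Multiset.replicate m 2).card with hN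
  intro h2
  have hN0 : N ≠ 0 := by
    intro h0
    rw [h0, zero_mul] at h
    exact (Nat.factorial_ne_zero _) h.symm
  haveI : Fact (Nat.Prime 2) := ⟨Nat.prime_two⟩
  have hv := congrArg (padicValNat 2) h
  have hmm : m + m = 2 * m := by ring
  rw [hmm, padicValNat_factorial_mul, padicValNat.mul hN0 (by positivity),
    padicValNat.mul (by positivity) (Nat.factorial_ne_zero _), padicValNat.prime_pow] at hv
  have h1 : 1 ≤ padicValNat 2 N := one_le_padicValNat_of_dvd hN0 h2
  omega

theorem exists_fpf_involution_commute (n : ℕ) (hn : Even n) (P : Subgroup (Perm (Fin n)))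
    (hP : IsPGroup 2 P) :
    ∃ τ : Perm (Fin n), τ * τ = 1 ∧ (∀ x, τ x ≠ x) ∧ ∀ g ∈ P, g * τ = τ * g := by
  classical
  obtain ⟨m, rfl⟩ := hn
  rcases Nat.eq_zero_or_pos m with hm | hm
  · subst hm
    refine ⟨1, by simp, fun x => x.elim0, fun g _ => by simp⟩
  haveI : Fact (Nat.Prime 2) := ⟨Nat.prime_two⟩
  letI : MulAction ↥P {g : Perm (Fin (m + m)) // g.cycleType = Multiset.replicate m 2} :=
    { smul := fun p g => ⟨(p : Perm (Fin (m + m))) * g.1 * (p : Perm (Fin (m + m)))⁻¹, by
        rw [cycleType_conj]; exact g.2⟩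
      one_smul := fun g => by
        apply Subtype.ext
        show ((1 : ↥P) : Perm (Fin (m + m))) * g.1 * ((1 : ↥P) : Perm (Fin (m + m)))⁻¹ = g.1
        simp
      mul_smul := fun p q g => by
        apply Subtype.ext
        show ((p * q : ↥P) : Perm (Fin (m + m))) * g.1 * ((p * q : ↥P) : Perm (Fin (m + m)))⁻¹ =
          (p : Perm (Fin (m + m))) * ((q : Perm (Fin (m + m))) * g.1 *
            (q : Perm (Fin (m + m)))⁻¹) * (p : Perm (Fin (m + m)))⁻¹
        simp [mul_assoc] }
  obtain ⟨τ, hτ⟩ := hP.nonempty_fixed_point_of_prime_not_dvd_card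
    {g : Perm (Fin (m + m)) // g.cycleType = Multiset.replicate m 2} (E_card_odd m hm)
  have hτc : τ.1.cycleType = Multiset.replicate m 2 := τ.2
  refine ⟨τ.1, ?_, ?_, ?_⟩
  · -- order divides 2
    have hord : orderOf τ.1 ∣ 2 := by
      rw [← lcm_cycleType, hτc, Multiset.lcm_dvd]
      intro b hb
      rw [Multiset.eq_of_mem_replicate hb]
    have := orderOf_dvd_iff_pow_eq_one.mp hord
    rw [pow_two] at this
    exact this
  · have hsupp : τ.1.support = Finset.univ := by
      apply Finset.eq_univ_of_card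
      rw [← sum_cycleType, hτc, Multiset.sum_replicate, smul_eq_mul, Fintype.card_fin]
      ring
    intro x
    have : x ∈ τ.1.support := by rw [hsupp]; exact Finset.mem_univ x
    exact Equiv.Perm.mem_support.mp this
  · intro g hg
    have h1 : (⟨g, hg⟩ : ↥P) • τ = τ := hτ ⟨g, hg⟩
    have h2 : g * τ.1 * g⁻¹ = τ.1 := congrArg Subtype.val h1
    calc g * τ.1 = g * τ.1 * g⁻¹ * g := by group
      _ = τ.1 * g := by rw [h2]

end Cfsg.Agent.S2245L
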