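import Mathlib

/-!
S2245, piece F2 (helper8): the centralizer of a fixed-point-free involution contains even elements
moving any point to any point, is proper in the alternating group, and breaks any half.
-/

set_option autoImplicit false
open Equiv Equiv.Perm

namespace Cfsg.Agent.S2245L

theorem F2_tau_tau {α : Type*} (τ : Perm α) (hτ2 : τ * τ = 1) (x : α) : τ (τ x) = x := by
  have := congrArg (fun f : Perm α => f x) hτ2
  simpa using this

/-- Type 1 element: `(u v)(τu τv)`. -/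
theorem F2_type1 {α : Type*} [Fintype α] [DecidableEq α] (τ : Perm α) (hτ2 : τ * τ = 1)
    (hτ : ∀ x, τ x ≠ x) (u v : α) (hv1 : v ≠ u) (hv2 : v ≠ τ u) :
    (swap u v * swap (τ u) (τ v)) * τ = τ * (swap u v * swap (τ u) (τ v)) ∧
      Perm.sign (swap u v * swap (τ u) (τ v)) = 1 ∧
      (swap u v * swap (τ u) (τ v)) u = v ∧
      ∀ z, z ≠ u → z ≠ v → z ≠ τ u → z ≠ τ v → (swap u v * swap (τ u) (τ v)) z = z := by
  have htt := F2_tau_tau τ hτ2
  have h1 : u ≠ τ u := fun h => hτ u h.symm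
  have h2 : u ≠ τ v := by
    intro h
    apply hv2
    rw [h, htt]
  have h3 : v ≠ τ v := fun h => hτ v h.symm
  have h4 : τ u ≠ τ v := fun h => hv1 (τ.injective h).symm
  have hdisj : Perm.Disjoint (swap u v) (swap (τ u) (τ v)) := by
    intro z
    by_cases hzu : z = u
    · right; rw [hzu]; exact swap_apply_of_ne_of_ne h1 h2
    by_cases hzv : z = v
    · right; rw [hzv]; exact swap_apply_of_ne_of_ne hv2 h3
    left; exact swap_apply_of_ne_of_ne hzu hzv
  refine ⟨?_, ?_, ?_, ?_⟩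
  · have e1 : τ * swap u v = swap (τ u) (τ v) * τ := Equiv.mul_swap_eq_swap_mul τ u v
    have e2 : τ * swap (τ u) (τ v) = swap u v * τ := by
      have := Equiv.mul_swap_eq_swap_mul τ (τ u) (τ v)
      rwa [htt, htt] at this
    calc (swap u v * swap (τ u) (τ v)) * τ
        = swap u v * (swap (τ u) (τ v) * τ) := by rw [mul_assoc]
      _ = swap u v * (τ * swap u v) := by rw [e1]
      _ = (swap u v * τ) * swap u v := by rw [mul_assoc]
      _ = (τ * swap (τ u) (τ v)) * swap u v := by rw [e2]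
      _ = τ * (swap (τ u) (τ v) * swap u v) := by rw [mul_assoc]
      _ = τ * (swap u v * swap (τ u) (τ v)) := by rw [hdisj.commute.eq]
  · rw [Perm.sign_mul, Perm.sign_swap hv1.symm, Perm.sign_swap h4]; rfl
  · rw [Perm.mul_apply, swap_apply_of_ne_of_ne h1 h2, swap_apply_left]
  · intro z hzu hzv hzu' hzv'
    rw [Perm.mul_apply, swap_apply_of_ne_of_ne hzu' hzv', swap_apply_of_ne_of_ne hzu hzv]

/-- Type 2 element: `(u τu)(w τw)`. -/
theorem F2_type2 {α : Type*} [Fintype α] [DecidableEq α] (τ : Perm α) (hτ2 : τ * τ = 1)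
    (hτ : ∀ x, τ x ≠ x) (u w : α) (hw1 : w ≠ u) (hw2 : w ≠ τ u) :
    (swap u (τ u) * swap w (τ w)) * τ = τ * (swap u (τ u) * swap w (τ w)) ∧
      Perm.sign (swap u (τ u) * swap w (τ w)) = 1 ∧
      (swap u (τ u) * swap w (τ w)) u = τ u ∧
      ∀ z, z ≠ u → z ≠ τ u → z ≠ w → z ≠ τ w → (swap u (τ u) * swap w (τ w)) z = z := by
  have htt := F2_tau_tau τ hτ2
  have h1 : u ≠ τ u := fun h => hτ u h.symm
  have h1' : w ≠ τ w := fun h => hτ w h.symm
  have h2 : u ≠ τ w := by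
    intro h
    apply hw2
    rw [h, htt]
  have ecomm : ∀ x : α, τ * swap x (τ x) = swap x (τ x) * τ := by
    intro x
    have := Equiv.mul_swap_eq_swap_mul τ x (τ x)
    rwa [htt, swap_comm (τ x) x] at this
  refine ⟨?_, ?_, ?_, ?_⟩
  · calc (swap u (τ u) * swap w (τ w)) * τ
        = swap u (τ u) * (swap w (τ w) * τ) := by rw [mul_assoc]
      _ = swap u (τ u) * (τ * swap w (τ w)) := by rw [ecomm w]
      _ = (swap u (τ u) * τ) * swap w (τ w) := by rw [mul_assoc]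
      _ = (τ * swap u (τ u)) * swap w (τ w) := by rw [ecomm u]
      _ = τ * (swap u (τ u) * swap w (τ w)) := by rw [mul_assoc]
  · rw [Perm.sign_mul, Perm.sign_swap h1, Perm.sign_swap h1']; rfl
  · rw [Perm.mul_apply, swap_apply_of_ne_of_ne hw1.symm h2, swap_apply_left]
  · intro z hzu hzu' hzw hzw'
    rw [Perm.mul_apply, swap_apply_of_ne_of_ne hzw hzw', swap_apply_of_ne_of_ne hzu hzu']

theorem F2_type1' {α : Type*} [Fintype α] [DecidableEq α] (τ : Perm α) (hτ2 : τ * τ = 1)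
    (hτ : ∀ x, τ x ≠ x) (u v : α) (hv1 : v ≠ u) (hv2 : v ≠ τ u) :
    ∃ g : Perm α, g * τ = τ * g ∧ Perm.sign g = 1 ∧ g u = v ∧
      ∀ z, z ≠ u → z ≠ v → z ≠ τ u → z ≠ τ v → g z = z :=
  ⟨_, F2_type1 τ hτ2 hτ u v hv1 hv2⟩

theorem F2_type2' {α : Type*} [Fintype α] [DecidableEq α] (τ : Perm α) (hτ2 : τ * τ = 1)
    (hτ : ∀ x, τ x ≠ x) (u w : α) (hw1 : w ≠ u) (hw2 : w ≠ τ u) :
    ∃ g : Perm α, g * τ = τ * g ∧ Perm.sign g = 1 ∧ g u = τ u ∧
      ∀ z, z ≠ u → z ≠ τ u → z ≠ w → z ≠ τ w → g z = z :=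
  ⟨_, F2_type2 τ hτ2 hτ u w hw1 hw2⟩

theorem F2_exists_avoid {α : Type*} [Fintype α] [DecidableEq α]
    (h3 : 3 ≤ Fintype.card α) (p q : α) : ∃ w : α, w ≠ p ∧ w ≠ q := by
  have hlt : ({p, q} : Finset α).card < (Finset.univ : Finset α).card := by
    rw [Finset.card_univ]
    exact lt_of_le_of_lt Finset.card_le_two (by omega)
  obtain ⟨w, -, hw⟩ := Finset.exists_mem_notMem_of_card_lt_card hlt
  simp only [Finset.mem_insert, Finset.mem_singleton, not_or] at hw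
  exact ⟨w, hw.1, hw.2⟩

theorem fpf_centralizer_transitive {α : Type*} [Fintype α] [DecidableEq α]
    (h4 : 4 ≤ Fintype.card α) (τ : Perm α) (hτ2 : τ * τ = 1) (hτ : ∀ x, τ x ≠ x) (x y : α) :
    ∃ g : Perm α, g * τ = τ * g ∧ Perm.sign g = 1 ∧ g x = y := by
  by_cases hxy : y = x
  · exact ⟨1, by simp, by simp, by simp [hxy]⟩
  by_cases hxy' : y = τ x
  · obtain ⟨w, hw1, hw2⟩ := F2_exists_avoid (by omega) x (τ x)
    obtain ⟨g, hc, hs, hx, -⟩ := F2_type2' τ hτ2 hτ x w hw1 hw2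
    exact ⟨g, hc, hs, by rw [hx, hxy']⟩
  · obtain ⟨hc, hs, hx, -⟩ := F2_type1 τ hτ2 hτ x y hxy hxy'
    exact ⟨_, hc, hs, hx⟩

theorem fpf_centralizer_ne_top {α : Type*} [Fintype α] [DecidableEq α]
    (h3 : 3 ≤ Fintype.card α) (τ : Perm α) (hτ2 : τ * τ = 1) (hτ : ∀ x, τ x ≠ x) :
    ∃ g : Perm α, Perm.sign g = 1 ∧ g * τ ≠ τ * g := by
  have hne : Nonempty α := by
    rw [← Fintype.card_pos_iff]; omega
  obtain ⟨x⟩ := hne
  obtain ⟨y, hy1, hy2⟩ := F2_exists_avoid h3 x (τ x)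
  have htt := F2_tau_tau τ hτ2
  have h1 : x ≠ τ x := fun h => hτ x h.symm
  refine ⟨swap x (τ x) * swap x y, ?_, ?_⟩
  · rw [Perm.sign_mul, Perm.sign_swap h1, Perm.sign_swap hy1.symm]; rfl
  · intro h
    have := congrArg (fun f : Perm α => f x) h
    simp only [Perm.mul_apply] at this
    -- LHS: g (τ x) = x ; RHS : τ (g x) = τ y
    rw [swap_apply_of_ne_of_ne h1.symm hy2.symm, swap_apply_right, swap_apply_left,
      swap_apply_of_ne_of_ne hy1 hy2] at this
    -- this : x = τ y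
    apply hy2
    rw [this, htt]

theorem F2_exists_mem_avoid {α : Type*} [DecidableEq α] (B : Finset α) (h4 : 4 ≤ B.card)
    (p q r : α) : ∃ b ∈ B, b ≠ p ∧ b ≠ q ∧ b ≠ r := by
  have hlt : ({p, q, r} : Finset α).card < B.card :=
    lt_of_le_of_lt Finset.card_le_three (by omega)
  obtain ⟨b, hb, hb'⟩ := Finset.exists_mem_notMem_of_card_lt_card hlt
  simp only [Finset.mem_insert, Finset.mem_singleton, not_or] at hb'
  exact ⟨b, hb, hb'.1, hb'.2.1, hb'.2.2⟩

/-- breaking a half: for `B` with `2 * |B| = |α| ≥ 8` there is an even `g` commuting with `τ`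
with `g • B ≠ B` and `g • B ∩ B ≠ ∅`. -/
theorem fpf_centralizer_breaks_half {α : Type*} [Fintype α] [DecidableEq α]
    (h8 : 8 ≤ Fintype.card α) (τ : Perm α) (hτ2 : τ * τ = 1) (hτ : ∀ x, τ x ≠ x)
    (B : Finset α) (hB : 2 * B.card = Fintype.card α) :
    ∃ g : Perm α, g * τ = τ * g ∧ Perm.sign g = 1 ∧ B.image g ≠ B ∧ (B.image g ∩ B).Nonempty := by
  have htt := F2_tau_tau τ hτ2
  have hB4 : 4 ≤ B.card := by omega
  by_cases hcase : ∃ x ∈ B, τ x ∉ B
  · obtain ⟨x, hxB, hτx⟩ := hcase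
    obtain ⟨w, hw1, hw2⟩ := F2_exists_avoid (by omega) x (τ x)
    obtain ⟨g, hc, hs, hx, hfix⟩ := F2_type2' τ hτ2 hτ x w hw1 hw2
    obtain ⟨b, hbB, hb1, hb2, hb3⟩ := F2_exists_mem_avoid B hB4 x w (τ w)
    have hb4 : b ≠ τ x := fun h => hτx (h ▸ hbB)
    refine ⟨g, hc, hs, ?_, ?_⟩
    · intro h
      apply hτx
      have hm : g x ∈ B.image g := Finset.mem_image_of_mem _ hxB
      rw [h, hx] at hm
      exact hm
    · refine ⟨b, Finset.mem_inter.2 ⟨?_, hbB⟩⟩
      rw [Finset.mem_image]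
      exact ⟨b, hbB, hfix b hb1 hb4 hb2 hb3⟩
  · push Not at hcase
    have hBlt : B.card < (Finset.univ : Finset α).card := by
      rw [Finset.card_univ]; omega
    obtain ⟨y, -, hyB⟩ := Finset.exists_mem_notMem_of_card_lt_card hBlt
    have hBne : B.Nonempty := Finset.card_pos.1 (by omega)
    obtain ⟨x, hxB⟩ := hBne
    have hτxB : τ x ∈ B := hcase x hxB
    have hτyB : τ y ∉ B := by
      intro h
      have := hcase (τ y) h
      rw [htt] at this
      exact hyB this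
    have hy1 : y ≠ x := fun h => hyB (h ▸ hxB)
    have hy2 : y ≠ τ x := fun h => hyB (h ▸ hτxB)
    obtain ⟨g, hc, hs, hx, hfix⟩ := F2_type1' τ hτ2 hτ x y hy1 hy2
    obtain ⟨b, hbB, hb1, hb2, -⟩ := F2_exists_mem_avoid B hB4 x (τ x) x
    have hb3 : b ≠ y := fun h => hyB (h ▸ hbB)
    have hb4 : b ≠ τ y := fun h => hτyB (h ▸ hbB)
    refine ⟨g, hc, hs, ?_, ?_⟩
    · intro h
      apply hyB
      have hm : g x ∈ B.image g := Finset.mem_image_of_mem _ hxB
      rw [h, hx] at hm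
      exact hm
    · refine ⟨b, Finset.mem_inter.2 ⟨?_, hbB⟩⟩
      rw [Finset.mem_image]
      exact ⟨b, hbB, hfix b hb1 hb3 hb2 hb4⟩

end Cfsg.Agent.S2245L
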