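import Mathlib

set_option autoImplicit false
open Equiv Equiv.Perm MulAction
open scoped Pointwise

namespace Cfsg.Agent.S2245L

theorem exists_half_of_transitive_two_group {α : Type*} [Fintype α] [DecidableEq α]
    (P : Subgroup (Perm α)) (hP : IsPGroup 2 P) (h2 : 2 ≤ Fintype.card α)
    (htr : ∀ x y : α, ∃ g ∈ P, g x = y) :
    ∃ B : Finset α, 2 * B.card = Fintype.card α ∧ ∀ g ∈ P, B.image g = B ∨ B.image g = Bᶜ := by
  classical
  haveI : Fact (Nat.Prime 2) := ⟨Nat.prime_two⟩
  have hne : Nonempty α := by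
    rw [← Fintype.card_pos_iff]; omega
  obtain ⟨x⟩ := hne
  -- the stabilizer of `x` in `P`
  set S : Subgroup ↥P := stabilizer ↥P x with hS
  have hSmem : ∀ g : ↥P, g ∈ S ↔ (g : Perm α) x = x := by
    intro g
    rw [hS, mem_stabilizer_iff]
    rfl
  have hSne : S ≠ ⊤ := by
    intro h
    obtain ⟨y, hy⟩ : ∃ y, y ≠ x := by
      by_contra hcon
      push Not at hcon
      have : Fintype.card α ≤ 1 :=
        Fintype.card_le_one_iff.mpr (fun a b => by rw [hcon a, hcon b])
      omega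
    obtain ⟨g, hg, hgx⟩ := htr x y
    have hmem : (⟨g, hg⟩ : ↥P) ∈ S := by rw [h]; trivial
    rw [hSmem] at hmem
    exact hy (hgx ▸ hmem)
  obtain ⟨a, ha⟩ := IsPGroup.iff_card.mp hP
  obtain ⟨b, hb⟩ := IsPGroup.iff_card.mp (hP.to_subgroup S)
  have hba : b < a := by
    have h1 : Nat.card S ≤ Nat.card ↥P := Subgroup.card_le_card_group S
    have h3 : Nat.card S ≠ Nat.card ↥P := fun h => hSne (Subgroup.eq_top_of_card_eq S h)
    rw [ha, hb] at h1 h3
    have h4 : b ≤ a := (Nat.pow_le_pow_iff_right (by norm_num)).mp h1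
    rcases h4.lt_or_eq with h5 | h5
    · exact h5
    · exact absurd (by rw [h5]) h3
  obtain ⟨N, hNcard, hSN⟩ := Sylow.exists_subgroup_card_pow_prime_le 2 (n := b) (m := a - 1)
    (by rw [ha]; exact pow_dvd_pow 2 (Nat.sub_le _ _)) S hb (by omega)
  have hNidx : N.index = 2 := by
    have h1 := N.index_mul_card
    have h2a : 2 ^ a = 2 * 2 ^ (a - 1) := by
      rw [← pow_succ']
      congr 1
      omega
    rw [hNcard, ha, h2a] at h1
    exact Nat.eq_of_mul_eq_mul_right (by positivity) h1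
  -- the half
  set B : Finset α := Finset.univ.filter (fun y => ∃ n : ↥P, n ∈ N ∧ (n : Perm α) x = y) with hB
  have hBmem : ∀ y, y ∈ B ↔ ∃ n : ↥P, n ∈ N ∧ (n : Perm α) x = y := by
    intro y
    rw [hB, Finset.mem_filter]
    simp
  -- (1)
  have key1 : ∀ g : ↥P, ∀ y ∈ B, ((g : Perm α) y ∈ B ↔ g ∈ N) := by
    intro g y hy
    obtain ⟨n, hn, rfl⟩ := (hBmem y).mp hy
    constructor
    · intro h
      obtain ⟨n', hn', hx⟩ := (hBmem _).mp h
      have hs : n'⁻¹ * g * n ∈ S := by
        rw [hSmem]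
        show ((n'⁻¹ * g * n : ↥P) : Perm α) x = x
        have : ((n'⁻¹ * g * n : ↥P) : Perm α) x = (n' : Perm α)⁻¹ ((g : Perm α) ((n : Perm α) x)) := by
          simp [Perm.mul_apply]
        rw [this, ← hx]
        simp
      have h3 := hSN hs
      have h4 : n' * (n'⁻¹ * g * n) * n⁻¹ ∈ N := N.mul_mem (N.mul_mem hn' h3) (N.inv_mem hn)
      have h5 : n' * (n'⁻¹ * g * n) * n⁻¹ = g := by group
      rwa [h5] at h4
    · intro hg
      rw [hBmem]
      exact ⟨g * n, N.mul_mem hg hn, by simp [Perm.mul_apply]⟩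
  -- (2)
  have key2 : ∀ g : ↥P, g ∉ N → ∀ y, y ∉ B → (g : Perm α) y ∈ B := by
    intro g hg y hy
    obtain ⟨h, hh, hxy⟩ := htr x y
    have hhN : (⟨h, hh⟩ : ↥P) ∉ N := by
      intro hmem
      exact hy ((hBmem y).mpr ⟨⟨h, hh⟩, hmem, hxy⟩)
    have hgh : g * ⟨h, hh⟩ ∈ N := by
      rw [Subgroup.mul_mem_iff_of_index_two hNidx]
      exact ⟨fun h' => absurd h' hg, fun h' => absurd h' hhN⟩
    rw [hBmem]
    refine ⟨g * ⟨h, hh⟩, hgh, ?_⟩
    rw [← hxy]
    simp [Perm.mul_apply]
  -- some element outside `N`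
  obtain ⟨g0, hg0⟩ : ∃ g0 : ↥P, g0 ∉ N := by
    by_contra hcon
    push Not at hcon
    have : N = ⊤ := by
      rw [eq_top_iff]
      intro g _
      exact hcon g
    rw [this, Subgroup.index_top] at hNidx
    omega
  have hinj : ∀ g : ↥P, Function.Injective ((g : Perm α) : α → α) := fun g => (g : Perm α).injective
  have hsub1 : ∀ g : ↥P, g ∉ N → B.image (g : Perm α) ⊆ Bᶜ := by
    intro g hg z hz
    obtain ⟨y, hy, rfl⟩ := Finset.mem_image.mp hz
    rw [Finset.mem_compl]
    intro h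
    exact hg ((key1 g y hy).mp h)
  have hsub2 : ∀ g : ↥P, g ∉ N → Bᶜ.image (g : Perm α) ⊆ B := by
    intro g hg z hz
    obtain ⟨y, hy, rfl⟩ := Finset.mem_image.mp hz
    rw [Finset.mem_compl] at hy
    exact key2 g hg y hy
  have hcardeq : B.card = Bᶜ.card := by
    apply le_antisymm
    · calc B.card = (B.image (g0 : Perm α)).card := (Finset.card_image_of_injective _ (hinj g0)).symm
        _ ≤ Bᶜ.card := Finset.card_le_card (hsub1 g0 hg0)
    · calc Bᶜ.card = (Bᶜ.image (g0 : Perm α)).card :=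
            (Finset.card_image_of_injective _ (hinj g0)).symm
        _ ≤ B.card := Finset.card_le_card (hsub2 g0 hg0)
  refine ⟨B, ?_, ?_⟩
  · have := Finset.card_add_card_compl B
    omega
  · intro g hg
    by_cases hgN : (⟨g, hg⟩ : ↥P) ∈ N
    · left
      apply Finset.eq_of_subset_of_card_le
      · intro z hz
        obtain ⟨y, hy, rfl⟩ := Finset.mem_image.mp hz
        exact (key1 ⟨g, hg⟩ y hy).mpr hgN
      · rw [Finset.card_image_of_injective _ g.injective]
    · right
      apply Finset.eq_of_subset_of_card_le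
      · exact hsub1 ⟨g, hg⟩ hgN
      · rw [Finset.card_image_of_injective _ g.injective, hcardeq]

end Cfsg.Agent.S2245L
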