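import Mathlib

set_option autoImplicit false
open Equiv Equiv.Perm MulAction Set
open scoped Pointwise

namespace Cfsg.Agent.S2245L

/-- "halves lemma", alternating version, with the extra hypothesis `4 < Nat.card α`
(copy of Mathlib's `alternatingGroup.isCoatom_stabilizer_of_ncard_lt_ncard_compl`,
its Step 1 replaced by the hypothesis `hnb`). -/
theorem alt_eq_top_of_stabilizer_le_of_not_isBlock_aux {α : Type*} [Fintype α] [DecidableEq α]
    (s : Set α) (h4 : 4 < Nat.card α) (h0 : s.Nontrivial) (hcard : s.ncard ≤ sᶜ.ncard)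
    (J : Subgroup (alternatingGroup α)) (hJ : stabilizer (alternatingGroup α) s < J)
    (hnb : ¬ IsBlock J sᶜ) : J = ⊤ := by
  have hsum := ncard_add_ncard_compl s
  have h2s : 2 ≤ s.ncard := by
    have := (one_lt_ncard_iff_nontrivial (s := s)).mpr h0
    omega
  have h1 : sᶜ.Nontrivial := by
    rw [← one_lt_ncard_iff_nontrivial]
    omega
  have h3c : 3 ≤ sᶜ.ncard := by omega
  suffices IsPreprimitive J α from alternatingGroup.subgroup_eq_top_of_isPreprimitive h4 J hJ.le
  -- J acts transitively
  have := J.isPretransitive_of_stabilizer_lt hJ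
    (alternatingGroup.exists_mem_stabilizer_smul_eq (Nat.le_of_succ_le h4))
  apply IsPreprimitive.mk
  intro B hB
  rw [IsTrivialBlock, or_iff_not_imp_left]
  intro hB'
  -- Step 2 : A block contained in `sᶜ` is a subsingleton
  have hB_not_le_sc (B : Set α) (hB : IsBlock J B) (hBsc : B ⊆ sᶜ) :
      B.Subsingleton :=
    IsBlock.subsingleton_of_ssubset_compl_of_stabilizer_alternatingGroup_le h0
      (hBsc.ssubset_of_ne (by rintro rfl; exact hnb hB))
      hJ.le hB
  suffices hsub : sᶜ ⊆ B by
    apply hB.eq_univ_of_card_lt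
    have hne : sᶜ ≠ B := by
      rintro rfl
      exact hB' (hB_not_le_sc _ hB subset_rfl)
    have : sᶜ.ncard < B.ncard := ncard_lt_ncard (hsub.ssubset_of_ne hne) (toFinite B)
    omega
  -- Step 3 : A block contained in `s` is a subsingleton
  have hB_not_le_s (B : Set α) (hB : IsBlock J B) (hBs : B ⊆ s) :
      B.Subsingleton :=
    have : IsPreprimitive (stabilizer J s) s :=
      alternatingGroup.stabilizer_subgroup_isPreprimitive h1 hJ.le
    hB.subsingleton_of_stabilizer_lt_of_subset hB_not_le_sc hJ hBs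
  -- Step 4 : sᶜ ⊆ B : A block which is not a subsingleton contains `sᶜ`.
  suffices IsMultiplyPretransitive (↥(alternatingGroup α)) α (s.ncard + 1) by
    have : ¬ B ⊆ s := fun h ↦ hB' (hB_not_le_s B hB h)
    have : ¬ B ⊆ sᶜ := fun h ↦ hB' (hB_not_le_sc B hB h)
    apply hB.compl_subset_of_stabilizer_le_of_not_subset_of_not_subset_compl
      hJ.le <;> assumption
  have := alternatingGroup.isMultiplyPretransitive α
  apply isMultiplyPretransitive_of_le (n := Nat.card α - 2) _ (Nat.sub_le _ _)
  omega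

/-- "halves lemma", alternating version (the case `Nat.card α = 4` is done by counting). -/
theorem alt_eq_top_of_stabilizer_le_of_not_isBlock {α : Type*} [Fintype α] [DecidableEq α]
    (s : Set α) (h0 : s.Nontrivial) (hcard : s.ncard ≤ sᶜ.ncard)
    (J : Subgroup (alternatingGroup α)) (hJ : stabilizer (alternatingGroup α) s < J)
    (hnb : ¬ IsBlock J sᶜ) : J = ⊤ := by
  by_cases h4 : 4 < Nat.card α
  · exact alt_eq_top_of_stabilizer_le_of_not_isBlock_aux s h4 h0 hcard J hJ hnb
  have hsum := ncard_add_ncard_compl s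
  have h2s : 2 ≤ s.ncard := by
    have := (one_lt_ncard_iff_nontrivial (s := s)).mpr h0
    omega
  have hcard4 : Nat.card α = 4 := by omega
  have : Nontrivial α := by
    rw [← Finite.one_lt_card_iff_nontrivial]; omega
  -- `J` acts transitively
  have htr := J.isPretransitive_of_stabilizer_lt hJ
    (alternatingGroup.exists_mem_stabilizer_smul_eq (by omega))
  -- a nontrivial element of `J` fixing a point
  rw [isBlock_iff_smul_eq_of_mem] at hnb
  push Not at hnb
  obtain ⟨h, y, hy, hhy, hne⟩ := hnb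
  obtain ⟨g, hg, hgy⟩ := alternatingGroup.exists_mem_stabilizer_smul_eq (t := sᶜ)
    (by omega) (h • y) hhy y hy
  have hgs : g • sᶜ = sᶜ := hg
  rw [stabilizer_compl] at hg
  have hky : ((⟨g, hJ.le hg⟩ : J) * h) • y = y := by
    rw [mul_smul]; exact hgy
  have hk1 : ((⟨g, hJ.le hg⟩ : J) * h) ≠ 1 := by
    intro hk
    apply hne
    have hh : h = (⟨g, hJ.le hg⟩ : J)⁻¹ := eq_inv_of_mul_eq_one_right hk
    rw [hh]
    have : ((⟨g, hJ.le hg⟩ : J)⁻¹) • sᶜ = g⁻¹ • sᶜ := rfl
    rw [this, inv_smul_eq_iff, hgs]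
  -- counting
  have hidx : (stabilizer J y).index = 4 := by
    rw [index_stabilizer_of_transitive, hcard4]
  have hcardJ : Nat.card (stabilizer J y) * 4 = Nat.card J := by
    rw [← hidx]; exact Subgroup.card_mul_index _
  have h12 : Nat.card (alternatingGroup α) = 12 := by
    rw [nat_card_alternatingGroup, hcard4]; rfl
  have hdvd : Nat.card J ∣ 12 := by
    have := Subgroup.card_subgroup_dvd_card J
    rwa [h12] at this
  have h2 : 2 ≤ Nat.card (stabilizer J y) := by
    have hnt : Nontrivial (stabilizer J y) :=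
      ⟨⟨⟨(⟨g, hJ.le hg⟩ : J) * h, hky⟩, 1, fun he => hk1 (congrArg Subtype.val he)⟩⟩
    exact Finite.one_lt_card_iff_nontrivial.mpr hnt
  have hJ12 : Nat.card J = 12 := by
    obtain ⟨c, hc⟩ := hdvd
    rw [← hcardJ] at hc ⊢
    have hc' : Nat.card (stabilizer J y) * c = 3 := by nlinarith
    have hm : Nat.card (stabilizer J y) ∣ 3 := ⟨c, hc'.symm⟩
    have := (Nat.dvd_prime Nat.prime_three).mp hm
    rcases this with h | h
    · omega
    · rw [h]
  rw [← Subgroup.card_eq_iff_eq_top, hJ12, h12]

end Cfsg.Agent.S2245L
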