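import Mathlib

set_option autoImplicit false
open Equiv Equiv.Perm MulAction Set
open scoped Pointwise

namespace Cfsg.Agent.S2245L

/-- "halves lemma", symmetric version
(copy of Mathlib's `Equiv.Perm.isCoatom_stabilizer_of_ncard_lt_ncard_compl`,
its Step 1 replaced by the hypothesis `hnb`). -/
theorem perm_eq_top_of_stabilizer_le_of_not_isBlock {α : Type*} [Fintype α] [DecidableEq α]
    (s : Set α) (h0 : s.Nonempty) (hcard : s.ncard ≤ sᶜ.ncard)
    (J : Subgroup (Perm α)) (hJ : stabilizer (Perm α) s < J) (hnb : ¬ IsBlock J sᶜ) : J = ⊤ := by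
  have hsum := ncard_add_ncard_compl s
  have hJ' : stabilizer (Perm α) sᶜ < J := by rwa [stabilizer_compl]
  -- We know that `J` contains a swap
  obtain ⟨g, hg_swap, hg⟩ := has_swap_mem_of_lt_stabilizer s J hJ
  apply subgroup_eq_top_of_isPreprimitive_of_isSwap_mem _ g hg_swap hg
  -- First, we prove that `J` acts transitively
  have := J.isPretransitive_of_stabilizer_lt hJ exists_mem_stabilizer_smul_eq
  apply IsPreprimitive.mk
  intro B hB
  unfold IsTrivialBlock
  rw [or_iff_not_imp_left]
  intro hB'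
  -- Step 2 : A block contained in sᶜ is a subsingleton
  have hB_not_le_sc (B : Set α) (hB : IsBlock J B) (hBsc : B ⊆ sᶜ) :
      B.Subsingleton :=
    hB.subsingleton_of_ssubset_of_stabilizer_Perm_le
      (hBsc.ssubset_of_ne (by rintro rfl; exact hnb hB)) hJ'.le
  suffices hsub : sᶜ ⊆ B by
    apply hB.eq_univ_of_card_lt
    have hne : sᶜ ≠ B := by
      rintro rfl
      exact hB' (hB_not_le_sc _ hB subset_rfl)
    have : sᶜ.ncard < B.ncard := ncard_lt_ncard (hsub.ssubset_of_ne hne) (toFinite B)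
    omega
  -- Step 3 : A block contained in `s` is a subsingleton
  have hB_not_le_s (B : Set α) (hB : IsBlock J B) (hBs : B ⊆ s) : B.Subsingleton :=
    have := isPreprimitive_stabilizer_subgroup hJ.le
    hB.subsingleton_of_stabilizer_lt_of_subset hB_not_le_sc hJ hBs
  -- Step 4 : `sᶜ ⊆ B`
  have _ := isMultiplyPretransitive α (s.ncard + 1)
  have h1 : ¬ B ⊆ s := fun h ↦ hB' (hB_not_le_s B hB h)
  have h2 : ¬ B ⊆ sᶜ := fun h ↦ hB' (hB_not_le_sc B hB h)
  apply MulAction.IsBlock.compl_subset_of_stabilizer_le_of_not_subset_of_not_subset_compl hJ.le <;>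
    assumption

end Cfsg.Agent.S2245L
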