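import Mathlib
import Cfsg.Agent.Lib.S2245.A
import Cfsg.Agent.Lib.S2245.E
import Cfsg.Agent.Lib.S2245.F2
import Cfsg.Agent.Lib.S2245.G7
import Cfsg.Agent.Lib.S2245.HAlt
import Cfsg.Agent.Lib.S2245.HPerm

set_option autoImplicit false
open Equiv Equiv.Perm MulAction
open scoped Pointwise

namespace Cfsg.Agent.S2245L

variable {α : Type*} [Fintype α] [DecidableEq α]

theorem I_image_compl (g : Perm α) (B : Finset α) : Bᶜ.image g = (B.image g)ᶜ := by
  ext y
  simp only [Finset.mem_image, Finset.mem_compl, not_exists, not_and]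
  constructor
  · rintro ⟨x, hx, rfl⟩ z hz h
    exact hx (g.injective h ▸ hz)
  · intro h
    exact ⟨g⁻¹ y, fun hmem => h _ hmem (by simp), by simp⟩

theorem I_coe_image (g : Perm α) (B : Finset α) :
    ((B.image g : Finset α) : Set α) = g • (B : Set α) := by
  rw [Finset.coe_image]
  rfl

/-- the subgroup of permutations preserving the partition `{B, Bᶜ}` -/
def I_halfStab (B : Finset α) : Subgroup (Perm α) where
  carrier := {g | B.image g = B ∨ B.image g = Bᶜ}
  one_mem' := by left; simp
  mul_mem' := by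
    intro g h hg hh
    simp only [Set.mem_ofPred_eq] at hg hh ⊢
    have key : B.image (g * h) = (B.image h).image g := by
      rw [Finset.image_image]; rfl
    rw [key]
    rcases hh with hh | hh <;> rcases hg with hg | hg
    · left; rw [hh, hg]
    · right; rw [hh, hg]
    · right; rw [hh, I_image_compl, hg]
    · left; rw [hh, I_image_compl, hg, compl_compl]
  inv_mem' := by
    intro g hg
    simp only [Set.mem_ofPred_eq] at hg ⊢
    have key : ∀ C D : Finset α, C.image g = D → D.image (⇑(g⁻¹)) = C := by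
      intro C D h
      rw [← h, Finset.image_image]
      ext y; simp
    rcases hg with hg | hg
    · left; exact key B B hg
    · right
      have := key B Bᶜ hg
      have h2 := I_image_compl (g⁻¹) B
      rw [this] at h2
      have h3 := congrArg (fun s => sᶜ) h2
      simp only [compl_compl] at h3
      exact h3.symm

theorem I_mem_halfStab (B : Finset α) (g : Perm α) :
    g ∈ I_halfStab B ↔ (B.image g = B ∨ B.image g = Bᶜ) := Iff.rfl


theorem I_le_of_unique {G : Type*} [Group G] [Finite G] (R M : Subgroup G)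
    (huniq : ∀ M' : Subgroup G, IsCoatom M' → R ≤ M' → M' = M) (H : Subgroup G) (hRH : R ≤ H)
    (hH : H ≠ ⊤) : H ≤ M := by
  rcases eq_top_or_exists_le_coatom H with h | ⟨M', hM', hle⟩
  · exact absurd h hH
  · rw [← huniq M' hM' (hRH.trans hle)]; exact hle

theorem I_transitive_of_sylow {G : Type*} [Group G] [Finite G] [MulAction G α] (i : ℕ)
    (hcard : Fintype.card α = 2 ^ i)
    (htr : ∀ s, IsPretransitive G (Set.powersetCard α s)) (R : Sylow 2 G) (x y : α) :
    ∃ r ∈ (R : Subgroup G), r • x = y := by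
  classical
  let Y : Finset α := Finset.univ.filter (fun z => ∃ r ∈ (R : Subgroup G), r • x = z)
  have hxY : x ∈ Y := by
    simp only [Y, Finset.mem_filter, Finset.mem_univ, true_and]
    exact ⟨1, one_mem _, one_smul _ _⟩
  have hinv : ∀ r ∈ (R : Subgroup G), r • Y = Y := by
    intro r hr
    apply Finset.eq_of_subset_of_card_le
    · intro z hz
      rw [Finset.mem_smul_finset] at hz
      obtain ⟨w, hw, rfl⟩ := hz
      simp only [Y, Finset.mem_filter, Finset.mem_univ, true_and] at hw ⊢
      obtain ⟨r', hr', rfl⟩ := hw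
      exact ⟨r * r', mul_mem hr hr', mul_smul _ _ _⟩
    · rw [Finset.card_smul_finset]
  have hodd := odd_choose_of_invariant R Y (htr _) hinv
  have hpos : 1 ≤ Y.card := Finset.card_pos.mpr ⟨x, hxY⟩
  have hle : Y.card ≤ 2 ^ i := hcard ▸ Finset.card_le_univ Y
  have hYc : Y.card = 2 ^ i := by
    by_contra hne
    have hlt : Y.card < 2 ^ i := lt_of_le_of_ne hle hne
    have hev := even_choose_two_pow i Y.card hpos hlt
    rw [hcard] at hodd
    exact (Nat.not_even_iff_odd.mpr hodd) hev
  have hYu : Y = Finset.univ := by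
    apply Finset.eq_univ_of_card
    rw [hYc, hcard]
  have hy : y ∈ Y := hYu ▸ Finset.mem_univ y
  simpa only [Y, Finset.mem_filter, Finset.mem_univ, true_and] using hy

theorem forward_pow_perm (n i : ℕ) (hi : 3 ≤ i) (hn : n = 2 ^ i) (R : Sylow 2 (Perm (Fin n)))
    (M : Subgroup (Perm (Fin n))) (hM : IsCoatom M) (hRM : (R : Subgroup (Perm (Fin n))) ≤ M)
    (huniq : ∀ M' : Subgroup (Perm (Fin n)), IsCoatom M' → (R : Subgroup (Perm (Fin n))) ≤ M' →
      M' = M) : False := by
  have h8 : 8 ≤ n := by
    rw [hn]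
    calc 8 = 2 ^ 3 := by norm_num
      _ ≤ 2 ^ i := Nat.pow_le_pow_right (by norm_num) hi
  have hcardn : Fintype.card (Fin n) = n := Fintype.card_fin n
  have hR2 : IsPGroup 2 (R : Subgroup (Perm (Fin n))) := R.isPGroup'
  have heven : Even n := by
    rw [hn]
    exact (Nat.even_pow' (by omega)).mpr even_two
  -- τ and its centralizer
  obtain ⟨τ, hτ2, hτ, hcomm⟩ :=
    exists_fpf_involution_commute n heven (R : Subgroup (Perm (Fin n))) hR2
  have hmemC : ∀ g : Perm (Fin n), g * τ = τ * g → g ∈ Subgroup.centralizer {τ} := by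
    intro g hg
    rw [Subgroup.mem_centralizer_iff]
    intro t ht
    rw [Set.mem_singleton_iff] at ht
    subst ht
    exact hg.symm
  have hCM : Subgroup.centralizer {τ} ≤ M := by
    apply I_le_of_unique _ M huniq
    · intro g hg
      exact hmemC g (hcomm g hg)
    · obtain ⟨g, _, hg⟩ := fpf_centralizer_ne_top (α := Fin n) (by rw [hcardn]; omega) τ hτ2 hτ
      intro htop
      have : g ∈ Subgroup.centralizer {τ} := htop ▸ Subgroup.mem_top g
      rw [Subgroup.mem_centralizer_iff] at this
      exact hg (this τ rfl).symm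
  -- R is transitive
  have hRtr : ∀ x y : Fin n, ∃ g ∈ (R : Subgroup (Perm (Fin n))), g x = y := by
    intro x y
    obtain ⟨r, hr, hrx⟩ := I_transitive_of_sylow (α := Fin n) i (by rw [hcardn, hn])
      (fun s => Set.powersetCard.isPretransitive) R x y
    exact ⟨r, hr, hrx⟩
  -- the half
  obtain ⟨B, hB2, hBR⟩ := exists_half_of_transitive_two_group (R : Subgroup (Perm (Fin n))) hR2
    (by rw [hcardn]; omega) hRtr
  rw [hcardn] at hB2
  have hBc : 2 * Bᶜ.card = Fintype.card (Fin n) := by
    rw [Finset.card_compl, hcardn]; omega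
  -- the half stabilizer is proper and contains R
  have hH2M : I_halfStab B ≤ M := by
    apply I_le_of_unique _ M huniq
    · intro g hg
      exact hBR g hg
    · -- a swap y z with x, y ∈ B, z ∉ B
      have hB4 : 1 < B.card := by omega
      obtain ⟨x, hx, y, hy, hxy⟩ := Finset.one_lt_card.mp hB4
      have hBc4 : 0 < Bᶜ.card := by rw [Finset.card_compl, hcardn]; omega
      obtain ⟨z, hz⟩ := Finset.card_pos.mp hBc4
      rw [Finset.mem_compl] at hz
      intro htop
      have hmem : swap y z ∈ I_halfStab B := htop ▸ Subgroup.mem_top _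
      rw [I_mem_halfStab] at hmem
      have hzim : z ∈ B.image (swap y z) := Finset.mem_image.mpr ⟨y, hy, by simp⟩
      have hxim : x ∈ B.image (swap y z) := by
        refine Finset.mem_image.mpr ⟨x, hx, ?_⟩
        exact swap_apply_of_ne_of_ne hxy (fun h => hz (h ▸ hx))
      rcases hmem with h | h
      · rw [h] at hzim; exact hz hzim
      · rw [h, Finset.mem_compl] at hxim; exact hxim hx
  have hstabH2 : stabilizer (Perm (Fin n)) (B : Set (Fin n)) ≤ I_halfStab B := by
    intro g hg
    rw [mem_stabilizer_iff, ← I_coe_image] at hg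
    rw [I_mem_halfStab]
    left
    exact_mod_cast hg
  -- the breaking element
  obtain ⟨g, hgτ, _, hgne, hgint⟩ :=
    fpf_centralizer_breaks_half (α := Fin n) (by rw [hcardn]; omega) τ hτ2 hτ Bᶜ hBc
  have hgM : g ∈ M := hCM (hmemC g hgτ)
  have hgB : B.image g ≠ B := by
    intro h
    apply hgne
    rw [I_image_compl, h]
  -- apply the halves lemma
  have hB0 : (B : Set (Fin n)).Nonempty := by
    rw [Finset.coe_nonempty, ← Finset.card_pos]; omega
  have hcard : (B : Set (Fin n)).ncard ≤ ((B : Set (Fin n))ᶜ).ncard := by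
    rw [← Finset.coe_compl, Set.ncard_coe_finset, Set.ncard_coe_finset, Finset.card_compl, hcardn]
    omega
  have hlt : stabilizer (Perm (Fin n)) (B : Set (Fin n)) < M := by
    refine lt_of_le_of_ne (hstabH2.trans hH2M) ?_
    intro heq
    have : g ∈ stabilizer (Perm (Fin n)) (B : Set (Fin n)) := heq ▸ hgM
    rw [mem_stabilizer_iff, ← I_coe_image] at this
    exact hgB (by exact_mod_cast this)
  have hnb : ¬ IsBlock M ((B : Set (Fin n))ᶜ) := by
    intro hblock
    rcases hblock.smul_eq_or_disjoint (⟨g, hgM⟩ : M) with h | h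
    · apply hgne
      have h' : g • ((B : Set (Fin n))ᶜ) = (B : Set (Fin n))ᶜ := h
      rw [← Finset.coe_compl, ← I_coe_image] at h'
      exact_mod_cast h'
    · have h' : Disjoint (g • ((B : Set (Fin n))ᶜ)) ((B : Set (Fin n))ᶜ) := h
      rw [← Finset.coe_compl, ← I_coe_image, Finset.disjoint_coe] at h'
      obtain ⟨w, hw⟩ := hgint
      rw [Finset.mem_inter] at hw
      exact (Finset.disjoint_left.mp h' hw.1) hw.2
  exact hM.1 (perm_eq_top_of_stabilizer_le_of_not_isBlock (B : Set (Fin n)) hB0 hcard M hlt hnb)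


theorem forward_pow_alt (n i : ℕ) (hi : 3 ≤ i) (hn : n = 2 ^ i)
    (R : Sylow 2 ↥(alternatingGroup (Fin n)))
    (M : Subgroup ↥(alternatingGroup (Fin n))) (hM : IsCoatom M)
    (hRM : (R : Subgroup ↥(alternatingGroup (Fin n))) ≤ M)
    (huniq : ∀ M' : Subgroup ↥(alternatingGroup (Fin n)), IsCoatom M' →
      (R : Subgroup ↥(alternatingGroup (Fin n))) ≤ M' → M' = M) : False := by
  have h8 : 8 ≤ n := by
    rw [hn]
    calc 8 = 2 ^ 3 := by norm_num
      _ ≤ 2 ^ i := Nat.pow_le_pow_right (by norm_num) hi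
  have hcardn : Fintype.card (Fin n) = n := Fintype.card_fin n
  have hR2 : IsPGroup 2 (R : Subgroup ↥(alternatingGroup (Fin n))) := R.isPGroup'
  have hP2 : IsPGroup 2
      ((R : Subgroup ↥(alternatingGroup (Fin n))).map (alternatingGroup (Fin n)).subtype) :=
    hR2.map _
  have heven : Even n := by
    rw [hn]
    exact (Nat.even_pow' (by omega)).mpr even_two
  -- τ and its centralizer
  obtain ⟨τ, hτ2, hτ, hcomm⟩ := exists_fpf_involution_commute n heven _ hP2
  have hmemC : ∀ g : alternatingGroup (Fin n), (g : Perm (Fin n)) * τ = τ * (g : Perm (Fin n)) →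
      g ∈ (Subgroup.centralizer {τ}).subgroupOf (alternatingGroup (Fin n)) := by
    intro g hg
    rw [Subgroup.mem_subgroupOf, Subgroup.mem_centralizer_iff]
    intro t ht
    rw [Set.mem_singleton_iff] at ht
    subst ht
    exact hg.symm
  have hCM : (Subgroup.centralizer {τ}).subgroupOf (alternatingGroup (Fin n)) ≤ M := by
    apply I_le_of_unique _ M huniq
    · intro g hg
      exact hmemC g (hcomm (g : Perm (Fin n)) (Subgroup.mem_map_of_mem _ hg))
    · obtain ⟨g, hgs, hg⟩ :=
        fpf_centralizer_ne_top (α := Fin n) (by rw [hcardn]; omega) τ hτ2 hτ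
      intro htop
      have : (⟨g, by rw [mem_alternatingGroup]; exact hgs⟩ : alternatingGroup (Fin n)) ∈
          (Subgroup.centralizer {τ}).subgroupOf (alternatingGroup (Fin n)) :=
        htop ▸ Subgroup.mem_top _
      rw [Subgroup.mem_subgroupOf, Subgroup.mem_centralizer_iff] at this
      exact hg (this τ rfl).symm
  -- R is transitive
  have hRtr : ∀ x y : Fin n, ∃ g ∈ (R : Subgroup ↥(alternatingGroup (Fin n))).map
      (alternatingGroup (Fin n)).subtype, g x = y := by
    intro x y
    obtain ⟨r, hr, hrx⟩ := I_transitive_of_sylow (α := Fin n) i (by rw [hcardn, hn])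
      (fun s => Set.powersetCard.isPretransitive_alternatingGroup (by simp; omega)) R x y
    exact ⟨(r : Perm (Fin n)), Subgroup.mem_map_of_mem _ hr, hrx⟩
  -- the half
  obtain ⟨B, hB2, hBR⟩ := exists_half_of_transitive_two_group _ hP2
    (by rw [hcardn]; omega) hRtr
  rw [hcardn] at hB2
  have hBc : 2 * Bᶜ.card = Fintype.card (Fin n) := by
    rw [Finset.card_compl, hcardn]; omega
  -- the half stabilizer is proper and contains R
  have hH2M : (I_halfStab B).subgroupOf (alternatingGroup (Fin n)) ≤ M := by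
    apply I_le_of_unique _ M huniq
    · intro g hg
      rw [Subgroup.mem_subgroupOf]
      exact hBR _ (Subgroup.mem_map_of_mem _ hg)
    · have hB3 : 2 < B.card := by omega
      obtain ⟨x, hx, x', hx', y, hy, hxx', hxy, hx'y⟩ := Finset.two_lt_card.mp hB3
      have hBc4 : 0 < Bᶜ.card := by rw [Finset.card_compl, hcardn]; omega
      obtain ⟨z, hz⟩ := Finset.card_pos.mp hBc4
      rw [Finset.mem_compl] at hz
      have hzx : z ≠ x := fun h => hz (h ▸ hx)
      have hzx' : z ≠ x' := fun h => hz (h ▸ hx')
      have hzy : z ≠ y := fun h => hz (h ▸ hy)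
      intro htop
      have hmem : (⟨swap y z * swap x x', by
          rw [mem_alternatingGroup]
          simp [Perm.sign_mul, Perm.sign_swap hzy.symm, Perm.sign_swap hxx']⟩ :
          alternatingGroup (Fin n)) ∈ (I_halfStab B).subgroupOf (alternatingGroup (Fin n)) :=
        htop ▸ Subgroup.mem_top _
      rw [Subgroup.mem_subgroupOf, I_mem_halfStab] at hmem
      have hzim : z ∈ B.image (swap y z * swap x x') := by
        refine Finset.mem_image.mpr ⟨y, hy, ?_⟩
        simp [swap_apply_of_ne_of_ne hxy.symm hx'y.symm]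
      have hxim : x' ∈ B.image (swap y z * swap x x') := by
        refine Finset.mem_image.mpr ⟨x, hx, ?_⟩
        simp [swap_apply_of_ne_of_ne hx'y hzx'.symm]
      rcases hmem with h | h
      · rw [h] at hzim; exact hz hzim
      · rw [h, Finset.mem_compl] at hxim; exact hxim hx'
  have hstabH2 : stabilizer (alternatingGroup (Fin n)) (B : Set (Fin n)) ≤
      (I_halfStab B).subgroupOf (alternatingGroup (Fin n)) := by
    intro g hg
    rw [mem_stabilizer_iff] at hg
    have hg' : (g : Perm (Fin n)) • (B : Set (Fin n)) = B := hg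
    rw [← I_coe_image] at hg'
    rw [Subgroup.mem_subgroupOf, I_mem_halfStab]
    left
    exact_mod_cast hg'
  -- the breaking element
  obtain ⟨g, hgτ, hgs, hgne, hgint⟩ :=
    fpf_centralizer_breaks_half (α := Fin n) (by rw [hcardn]; omega) τ hτ2 hτ Bᶜ hBc
  have hgA : g ∈ alternatingGroup (Fin n) := by rw [mem_alternatingGroup]; exact hgs
  have hgM : (⟨g, hgA⟩ : alternatingGroup (Fin n)) ∈ M := hCM (hmemC ⟨g, hgA⟩ hgτ)
  have hgB : B.image g ≠ B := by
    intro h
    apply hgne
    rw [I_image_compl, h]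
  have hB0 : (B : Set (Fin n)).Nontrivial := by
    rw [Finset.nontrivial_coe, ← Finset.one_lt_card_iff_nontrivial]; omega
  have hcard : (B : Set (Fin n)).ncard ≤ ((B : Set (Fin n))ᶜ).ncard := by
    rw [← Finset.coe_compl, Set.ncard_coe_finset, Set.ncard_coe_finset, Finset.card_compl, hcardn]
    omega
  have hlt : stabilizer (alternatingGroup (Fin n)) (B : Set (Fin n)) < M := by
    refine lt_of_le_of_ne (hstabH2.trans hH2M) ?_
    intro heq
    have : (⟨g, hgA⟩ : alternatingGroup (Fin n)) ∈
        stabilizer (alternatingGroup (Fin n)) (B : Set (Fin n)) := heq ▸ hgM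
    rw [mem_stabilizer_iff] at this
    have this' : g • (B : Set (Fin n)) = B := this
    rw [← I_coe_image] at this'
    exact hgB (by exact_mod_cast this')
  have hnb : ¬ IsBlock M ((B : Set (Fin n))ᶜ) := by
    intro hblock
    rcases hblock.smul_eq_or_disjoint (⟨⟨g, hgA⟩, hgM⟩ : M) with h | h
    · apply hgne
      have h' : g • ((B : Set (Fin n))ᶜ) = (B : Set (Fin n))ᶜ := h
      rw [← Finset.coe_compl, ← I_coe_image] at h'
      exact_mod_cast h'
    · have h' : Disjoint (g • ((B : Set (Fin n))ᶜ)) ((B : Set (Fin n))ᶜ) := h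
      rw [← Finset.coe_compl, ← I_coe_image, Finset.disjoint_coe] at h'
      obtain ⟨w, hw⟩ := hgint
      rw [Finset.mem_inter] at hw
      exact (Finset.disjoint_left.mp h' hw.1) hw.2
  exact hM.1 (alt_eq_top_of_stabilizer_le_of_not_isBlock_aux (B : Set (Fin n))
    (by rw [Nat.card_eq_fintype_card, hcardn]; omega) hB0 hcard M hlt hnb)

end Cfsg.Agent.S2245L
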