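import Mathlib
import Cfsg.Agent.Lib.S2245.A
import Cfsg.Agent.Lib.S2245.F2

/-!
S2245, piece I core (helper8): the case `n = 2 ^ i`, `i ≥ 3`, generic in the group
(`Perm (Fin n)` or `alternatingGroup (Fin n)`), with the inputs of pieces E, G, H as hypotheses.
-/

set_option autoImplicit false
open Equiv Equiv.Perm MulAction
open scoped Pointwise

namespace Cfsg.Agent.S2245L

theorem I_core {G : Type*} [Group G] [Finite G] (n i : ℕ) (hi : 3 ≤ i) (hn : n = 2 ^ i)
    [MulAction G (Fin n)]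
    (φ : G →* Perm (Fin n)) (hφ : ∀ (g : G) (x : Fin n), φ g x = g • x)
    (heven : ∀ σ : Perm (Fin n), Perm.sign σ = 1 → ∃ g : G, φ g = σ)
    (htr : ∀ s, IsPretransitive G (Set.powersetCard (Fin n) s))
    (hE : ∀ P : Subgroup (Perm (Fin n)), IsPGroup 2 P →
      ∃ τ : Perm (Fin n), τ * τ = 1 ∧ (∀ x, τ x ≠ x) ∧ ∀ g ∈ P, g * τ = τ * g)
    (hG : ∀ P : Subgroup (Perm (Fin n)), IsPGroup 2 P → (∀ x y : Fin n, ∃ g ∈ P, g x = y) →
      ∃ B : Finset (Fin n), 2 * B.card = Fintype.card (Fin n) ∧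
        ∀ g ∈ P, B.image g = B ∨ B.image g = Bᶜ)
    (hH : ∀ (s : Set (Fin n)) (J : Subgroup G), s.Nontrivial → s.ncard ≤ sᶜ.ncard →
      stabilizer G s < J → ¬ IsBlock J sᶜ → J = ⊤)
    (R : Sylow 2 G) (M : Subgroup G) (hM : IsCoatom M) (_hRM : (R : Subgroup G) ≤ M)
    (huniq : ∀ M' : Subgroup G, IsCoatom M' → (R : Subgroup G) ≤ M' → M' = M) : False := by
  classical
  have hcard : Fintype.card (Fin n) = 2 ^ i := by rw [Fintype.card_fin, hn]
  have h8 : 8 ≤ Fintype.card (Fin n) := by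
    rw [hcard]
    calc 8 = 2 ^ 3 := by norm_num
      _ ≤ 2 ^ i := Nat.pow_le_pow_right (by norm_num) hi
  -- (1) proper overgroups of R lie in M
  have hle : ∀ H : Subgroup G, (R : Subgroup G) ≤ H → H ≠ ⊤ → H ≤ M := by
    intro H hRH hH'
    rcases eq_top_or_exists_le_coatom H with h | ⟨M', hM', hHM'⟩
    · exact absurd h hH'
    · rw [← huniq M' hM' (hRH.trans hHM')]; exact hHM'
  -- (2) R is transitive
  have hRtr : ∀ x y : Fin n, ∃ r ∈ (R : Subgroup G), r • x = y := by
    intro x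
    set O : Finset (Fin n) :=
      Finset.univ.filter (fun y => ∃ r ∈ (R : Subgroup G), r • x = y) with hO
    have hmemO : ∀ y, y ∈ O ↔ ∃ r ∈ (R : Subgroup G), r • x = y := by
      intro y; simp [hO]
    have hinv : ∀ r ∈ (R : Subgroup G), r • O = O := by
      intro r hr
      ext z
      rw [← Finset.inv_smul_mem_iff, hmemO, hmemO]
      constructor
      · rintro ⟨r', hr', e⟩
        refine ⟨r * r', (R : Subgroup G).mul_mem hr hr', ?_⟩
        rw [mul_smul, e, smul_inv_smul]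
      · rintro ⟨r', hr', e⟩
        refine ⟨r⁻¹ * r', (R : Subgroup G).mul_mem ((R : Subgroup G).inv_mem hr) hr', ?_⟩
        rw [mul_smul, e]
    have hodd := odd_choose_of_invariant R O (htr O.card) hinv
    have hxO : x ∈ O := (hmemO x).2 ⟨1, (R : Subgroup G).one_mem, one_smul _ _⟩
    have h1 : 1 ≤ O.card := Finset.card_pos.2 ⟨x, hxO⟩
    have hfull : O.card = Fintype.card (Fin n) := by
      by_contra hne
      have hlt : O.card < 2 ^ i := by
        have := Finset.card_le_univ O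
        rw [hcard] at this hne
        omega
      have hev := even_choose_two_pow i O.card h1 hlt
      rw [hcard] at hodd
      exact (Nat.not_even_iff_odd.2 hodd) hev
    have hOuniv : O = Finset.univ := (Finset.card_eq_iff_eq_univ O).1 hfull
    intro y
    exact (hmemO y).1 (hOuniv ▸ Finset.mem_univ y)
  -- (3) P, τ, B
  set P : Subgroup (Perm (Fin n)) := (R : Subgroup G).map φ with hPdef
  have hP : IsPGroup 2 P := R.isPGroup'.map φ
  have hPtr : ∀ x y : Fin n, ∃ g ∈ P, g x = y := by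
    intro x y
    obtain ⟨r, hr, e⟩ := hRtr x y
    exact ⟨φ r, Subgroup.mem_map_of_mem φ hr, by rw [hφ, e]⟩
  obtain ⟨τ, hτ2, hτ, hτP⟩ := hE P hP
  obtain ⟨B, hB, hBP⟩ := hG P hP hPtr
  have hB4 : 4 ≤ B.card := by omega
  have hBc : 2 * Bᶜ.card = Fintype.card (Fin n) := by
    rw [Finset.card_compl]; omega
  -- (4) the centralizer of τ lies in M
  set Hc : Subgroup G := (Subgroup.centralizer ({τ} : Set (Perm (Fin n)))).comap φ with hHc
  have hmemHc : ∀ g : G, g ∈ Hc ↔ φ g * τ = τ * φ g := by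
    intro g
    rw [hHc, Subgroup.mem_comap, Subgroup.mem_centralizer_iff]
    constructor
    · intro h; exact (h τ rfl).symm
    · intro h x hx
      rw [Set.mem_singleton_iff] at hx
      rw [hx]; exact h.symm
  have hRHc : (R : Subgroup G) ≤ Hc := by
    intro r hr
    rw [hmemHc]
    exact hτP (φ r) (Subgroup.mem_map_of_mem φ hr)
  have hHcne : Hc ≠ ⊤ := by
    obtain ⟨σ, hσ, hne⟩ := fpf_centralizer_ne_top (by omega) τ hτ2 hτ
    obtain ⟨g, hg⟩ := heven σ hσ
    intro htop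
    have : g ∈ Hc := htop ▸ Subgroup.mem_top g
    rw [hmemHc, hg] at this
    exact hne this
  have hHcM : Hc ≤ M := hle Hc hRHc hHcne
  have hlift : ∀ σ : Perm (Fin n), σ * τ = τ * σ → Perm.sign σ = 1 → ∃ g ∈ M, φ g = σ := by
    intro σ hc hs
    obtain ⟨g, hg⟩ := heven σ hs
    refine ⟨g, hHcM ?_, hg⟩
    rw [hmemHc, hg]; exact hc
  -- image of a finset under φ g
  have himg : ∀ (g : G) (C : Finset (Fin n)),
      ((C.image (φ g) : Finset (Fin n)) : Set (Fin n)) = g • (C : Set (Fin n)) := by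
    intro g C
    ext z
    simp only [Finset.coe_image, Set.mem_image, Finset.mem_coe, Set.mem_smul_set, hφ]
  -- (5) the stabilizer of the partition {B, Bᶜ}
  let H₂ : Subgroup G :=
    { carrier := {g | ∀ x y : Fin n, (x ∈ B ↔ y ∈ B) ↔ (g • x ∈ B ↔ g • y ∈ B)}
      one_mem' := by intro x y; simp
      mul_mem' := by
        intro g h hg hh x y
        rw [mul_smul, mul_smul]
        exact (hh x y).trans (hg _ _)
      inv_mem' := by
        intro g hg x y
        have := hg (g⁻¹ • x) (g⁻¹ • y)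
        rw [smul_inv_smul, smul_inv_smul] at this
        exact this.symm }
  have hmemH₂ : ∀ g : G, g ∈ H₂ ↔ ∀ x y : Fin n, (x ∈ B ↔ y ∈ B) ↔ (g • x ∈ B ↔ g • y ∈ B) :=
    fun g => Iff.rfl
  have hcaseB : ∀ g : G, B.image (φ g) = B → g ∈ H₂ := by
    intro g hg
    have key : ∀ x, g • x ∈ B ↔ x ∈ B := by
      intro x
      constructor
      · intro h
        rw [← hg, Finset.mem_image] at h
        obtain ⟨b, hb, e⟩ := h
        rw [hφ] at e
        rwa [← smul_left_cancel g e]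
      · intro h
        rw [← hg, ← hφ]
        exact Finset.mem_image_of_mem _ h
    rw [hmemH₂]
    intro x y
    rw [key, key]
  have hcaseBc : ∀ g : G, B.image (φ g) = Bᶜ → g ∈ H₂ := by
    intro g hg
    have key : ∀ x, g • x ∈ B ↔ x ∉ B := by
      intro x
      constructor
      · intro h hx
        have : φ g x ∈ B.image (φ g) := Finset.mem_image_of_mem _ hx
        rw [hg, Finset.mem_compl, hφ] at this
        exact this h
      · intro hx
        by_contra h
        have h' : g • x ∈ Bᶜ := Finset.mem_compl.2 h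
        rw [← hg, Finset.mem_image] at h'
        obtain ⟨b, hb, e⟩ := h'
        rw [hφ] at e
        exact hx (smul_left_cancel g e ▸ hb)
    rw [hmemH₂]
    intro x y
    rw [key, key, not_iff_not]
  have hRH₂ : (R : Subgroup G) ≤ H₂ := by
    intro r hr
    rcases hBP (φ r) (Subgroup.mem_map_of_mem φ hr) with h | h
    · exact hcaseB r h
    · exact hcaseBc r h
  obtain ⟨b₁, hb₁, b₂, hb₂, hb12⟩ := Finset.one_lt_card.1 (by omega : 1 < B.card)
  have hBlt : B.card < (Finset.univ : Finset (Fin n)).card := by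
    rw [Finset.card_univ]; omega
  obtain ⟨c, -, hcB⟩ := Finset.exists_mem_notMem_of_card_lt_card hBlt
  have hb1c : b₁ ≠ c := fun h => hcB (h ▸ hb₁)
  have hb2c : b₂ ≠ c := fun h => hcB (h ▸ hb₂)
  have hH₂ne : H₂ ≠ ⊤ := by
    have hs : Perm.sign (swap b₁ c * swap b₁ b₂) = 1 := by
      rw [Perm.sign_mul, Perm.sign_swap hb1c, Perm.sign_swap hb12]; rfl
    obtain ⟨g, hg⟩ := heven _ hs
    intro htop
    have hgH : g ∈ H₂ := htop ▸ Subgroup.mem_top g
    have h1 : g • b₁ = b₂ := by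
      rw [← hφ, hg, Perm.mul_apply, swap_apply_left, swap_apply_of_ne_of_ne hb12.symm hb2c]
    have h2 : g • b₂ = c := by
      rw [← hφ, hg, Perm.mul_apply, swap_apply_right, swap_apply_left]
    have := (hmemH₂ g).1 hgH b₁ b₂
    rw [h1, h2] at this
    have h3 : (b₂ ∈ B ↔ c ∈ B) := this.1 ⟨fun _ => hb₂, fun _ => hb₁⟩
    exact hcB (h3.1 hb₂)
  have hH₂M : H₂ ≤ M := hle H₂ hRH₂ hH₂ne
  -- (6) apply the halves lemma
  have hstabH₂ : stabilizer G (B : Set (Fin n)) ≤ H₂ := by
    intro g hg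
    apply hcaseB
    rw [mem_stabilizer_iff, ← himg] at hg
    exact Finset.coe_injective hg
  have hlt : stabilizer G (B : Set (Fin n)) < M := by
    rw [SetLike.lt_iff_le_and_exists]
    refine ⟨hstabH₂.trans hH₂M, ?_⟩
    obtain ⟨σ, hc, hs, hne, -⟩ := fpf_centralizer_breaks_half h8 τ hτ2 hτ B hB
    obtain ⟨g, hgM, hg⟩ := hlift σ hc hs
    refine ⟨g, hgM, ?_⟩
    intro hgs
    rw [mem_stabilizer_iff, ← himg, hg] at hgs
    exact hne (Finset.coe_injective hgs)
  have hnb : ¬ IsBlock M ((B : Set (Fin n))ᶜ) := by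
    rw [isBlock_iff_smul_eq_of_nonempty]
    intro hblock
    obtain ⟨σ, hc, hs, hne, hnonempty⟩ := fpf_centralizer_breaks_half h8 τ hτ2 hτ Bᶜ hBc
    obtain ⟨g, hgM, hg⟩ := hlift σ hc hs
    have hset : ((⟨g, hgM⟩ : M) • ((B : Set (Fin n))ᶜ)) = ((Bᶜ.image σ : Finset (Fin n)) : Set (Fin n)) := by
      rw [← hg, himg, Finset.coe_compl]
      rfl
    have h1 : ((⟨g, hgM⟩ : M) • ((B : Set (Fin n))ᶜ) ∩ (B : Set (Fin n))ᶜ).Nonempty := by
      rw [hset, ← Finset.coe_compl, ← Finset.coe_inter]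
      exact hnonempty
    have h2 := hblock h1
    rw [hset, ← Finset.coe_compl] at h2
    exact hne (Finset.coe_injective h2)
  have hnt : (B : Set (Fin n)).Nontrivial := ⟨b₁, hb₁, b₂, hb₂, hb12⟩
  have hnc : (B : Set (Fin n)).ncard ≤ ((B : Set (Fin n))ᶜ).ncard := by
    rw [← Finset.coe_compl, Set.ncard_coe_finset, Set.ncard_coe_finset]
    omega
  exact hM.1 (hH (B : Set (Fin n)) M hnt hnc hlt hnb)

end Cfsg.Agent.S2245L
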