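import Mathlib
import Cfsg.Agent.Lib.S2245.B
import Cfsg.Agent.Lib.S2245.BC
import Cfsg.Agent.Lib.S2245.C3
import Cfsg.Agent.Lib.S2245.DF
import Cfsg.Agent.Lib.S2245.I

set_option autoImplicit false
open Equiv Equiv.Perm MulAction
open scoped Pointwise

namespace Cfsg.Agent.S2245L

/-! ### Instantiations -/

theorem J_hco_perm (n : ℕ) (s : Set (Fin n)) (h0 : s.Nonempty) (h1 : sᶜ.Nonempty)
    (h : Nat.card (Fin n) ≠ 2 * s.ncard) : IsCoatom (stabilizer (Perm (Fin n)) s) :=
  Equiv.Perm.isCoatom_stabilizer h0 h1 h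

theorem J_hco_alt (n : ℕ) (s : Set (Fin n)) (h0 : s.Nonempty) (h1 : sᶜ.Nonempty)
    (h : Nat.card (Fin n) ≠ 2 * s.ncard) :
    IsCoatom (stabilizer (alternatingGroup (Fin n)) s) :=
  alternatingGroup.isCoatom_stabilizer h0 h1 h

theorem J_hco_pt_perm (n : ℕ) (hn : 3 ≤ n) (a : Fin n) :
    IsCoatom (stabilizer (Perm (Fin n)) a) := by
  rw [← stabilizer_singleton]
  apply J_hco_perm n {a} (Set.singleton_nonempty a)
  · obtain ⟨b, hb⟩ : ∃ b : Fin n, b ≠ a := by
      by_contra hcon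
      push Not at hcon
      have : Fintype.card (Fin n) ≤ 1 := Fintype.card_le_one_iff.mpr
        (fun x y => (hcon x).trans (hcon y).symm)
      simp at this
      omega
    exact ⟨b, by simpa using hb⟩
  · simp
    omega

theorem J_hco_pt_alt (n : ℕ) (hn : 3 ≤ n) (a : Fin n) :
    IsCoatom (stabilizer (alternatingGroup (Fin n)) a) := by
  rw [← stabilizer_singleton]
  apply J_hco_alt n {a} (Set.singleton_nonempty a)
  · obtain ⟨b, hb⟩ : ∃ b : Fin n, b ≠ a := by
      by_contra hcon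
      push Not at hcon
      have : Fintype.card (Fin n) ≤ 1 := Fintype.card_le_one_iff.mpr
        (fun x y => (hcon x).trans (hcon y).symm)
      simp at this
      omega
    exact ⟨b, by simpa using hb⟩
  · simp
    omega

theorem J_htr_perm (n s : ℕ) : IsPretransitive (Perm (Fin n)) (Set.powersetCard (Fin n) s) :=
  Set.powersetCard.isPretransitive

theorem J_htr_alt (n : ℕ) (hn : 3 ≤ n) (s : ℕ) :
    IsPretransitive (alternatingGroup (Fin n)) (Set.powersetCard (Fin n) s) :=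
  Set.powersetCard.isPretransitive_alternatingGroup (by simpa using hn)

theorem J_h2_perm (n : ℕ) (a x z : Fin n) (hax : a ≠ x) (haz : a ≠ z) :
    ∃ g : Perm (Fin n), g • a = a ∧ g • x = z :=
  ⟨swap x z, by simp [swap_apply_of_ne_of_ne hax haz], by simp⟩

theorem J_h2_alt (n : ℕ) (hn : 4 ≤ n) (a x z : Fin n) (hax : a ≠ x) (haz : a ≠ z) :
    ∃ g : alternatingGroup (Fin n), g • a = a ∧ g • x = z := by
  by_cases hxz : x = z
  · exact ⟨1, by simp, by simp [hxz]⟩
  · -- pick w outside {a, x, z}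
    obtain ⟨w, hw⟩ : ∃ w : Fin n, w ∉ ({a, x, z} : Finset (Fin n)) := by
      by_contra hcon
      push Not at hcon
      have : (Finset.univ : Finset (Fin n)) ⊆ {a, x, z} := fun w _ => hcon w
      have h1 := Finset.card_le_card this
      have h2 : ({a, x, z} : Finset (Fin n)).card ≤ 3 := Finset.card_le_three
      simp at h1
      omega
    simp only [Finset.mem_insert, Finset.mem_singleton, not_or] at hw
    obtain ⟨hwa, hwx, hwz⟩ := hw
    refine ⟨⟨swap x z * swap z w, ?_⟩, ?_, ?_⟩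
    · rw [mem_alternatingGroup]
      simp [Perm.sign_mul, Perm.sign_swap hxz, Perm.sign_swap (Ne.symm hwz)]
    · change (swap x z * swap z w) a = a
      simp [swap_apply_of_ne_of_ne haz (Ne.symm hwa), swap_apply_of_ne_of_ne hax haz]
    · change (swap x z * swap z w) x = z
      simp [swap_apply_of_ne_of_ne hxz (Ne.symm hwx)]

/-! ### Backward direction -/

theorem backward_perm (n k : ℕ) (hk : 2 ≤ k) (hn : n = 2 ^ k + 1) (R : Sylow 2 (Perm (Fin n))) :
    ∃! M : Subgroup (Perm (Fin n)), IsCoatom M ∧ (R : Subgroup (Perm (Fin n))) ≤ M := by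
  have h4 : 4 ≤ 2 ^ k := by
    calc 4 = 2 ^ 2 := by norm_num
      _ ≤ 2 ^ k := Nat.pow_le_pow_right (by norm_num) hk
  have hn5 : 5 ≤ n := by omega
  exact backward_core k hk (by simpa using hn) (J_htr_perm n) (J_hco_pt_perm n (by omega)) R
    (fun M _ hRM _ _ hprim => perm_primitive_eq_top n (by omega) R M hRM hprim)

theorem backward_alt (n k : ℕ) (hk : 2 ≤ k) (hn : n = 2 ^ k + 1)
    (R : Sylow 2 ↥(alternatingGroup (Fin n))) :
    ∃! M : Subgroup ↥(alternatingGroup (Fin n)),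
      IsCoatom M ∧ (R : Subgroup ↥(alternatingGroup (Fin n))) ≤ M := by
  have h4 : 4 ≤ 2 ^ k := by
    calc 4 = 2 ^ 2 := by norm_num
      _ ≤ 2 ^ k := Nat.pow_le_pow_right (by norm_num) hk
  have hn5 : 5 ≤ n := by omega
  exact backward_core k hk (by simpa using hn) (J_htr_alt n (by omega)) (J_hco_pt_alt n (by omega)) R
    (fun M a hRM hfix htr hprim => alt_primitive_eq_top n hn5 R M a hRM hfix htr hprim)

/-! ### Forward direction -/

theorem J_pow_cases (n : ℕ) (hn : 5 ≤ n) (hne : ¬ ∃ k : ℕ, 2 ≤ k ∧ n = 2 ^ k + 1) :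
    (Odd n ∧ ∀ m, n ≠ 2 ^ m + 1) ∨ (∃ i, 3 ≤ i ∧ n = 2 ^ i) ∨ (Even n ∧ ∀ m, n ≠ 2 ^ m) := by
  rcases Nat.even_or_odd n with he | ho
  · by_cases hp : ∃ m, n = 2 ^ m
    · obtain ⟨m, hm⟩ := hp
      right; left
      refine ⟨m, ?_, hm⟩
      by_contra hlt
      push Not at hlt
      have : 2 ^ m ≤ 2 ^ 2 := Nat.pow_le_pow_right (by norm_num) (by omega)
      omega
    · right; right
      exact ⟨he, fun m hm => hp ⟨m, hm⟩⟩
  · left
    refine ⟨ho, fun m hm => hne ⟨m, ?_, hm⟩⟩
    by_contra hlt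
    push Not at hlt
    have : 2 ^ m ≤ 2 ^ 1 := Nat.pow_le_pow_right (by norm_num) (by omega)
    omega

theorem forward_perm (n : ℕ) (hn : 5 ≤ n) (h6 : n ≠ 6) (R : Sylow 2 (Perm (Fin n)))
    (h : ∃! M : Subgroup (Perm (Fin n)), IsCoatom M ∧ (R : Subgroup (Perm (Fin n))) ≤ M) :
    ∃ k : ℕ, 2 ≤ k ∧ n = 2 ^ k + 1 := by
  by_contra hne
  obtain ⟨M, ⟨hM, hRM⟩, huniq'⟩ := h
  have huniq : ∀ M' : Subgroup (Perm (Fin n)), IsCoatom M' →
      (R : Subgroup (Perm (Fin n))) ≤ M' → M' = M := fun M' h1 h2 => huniq' M' ⟨h1, h2⟩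
  have hR2 : IsPGroup 2 (R : Subgroup (Perm (Fin n))) := R.isPGroup'
  rcases J_pow_cases n hn hne with ⟨ho, hpow⟩ | ⟨i, hi, hni⟩ | ⟨he, hpow⟩
  · exact forward_odd (J_hco_perm n) (J_h2_perm n) (R : Subgroup (Perm (Fin n))) hR2
      (by simpa using ho) (by simp; omega) (by simpa using hpow) M hM hRM huniq
  · exact forward_pow_perm n i hi hni R M hM hRM huniq
  · obtain ⟨τ, hτ2, hτ, hcomm⟩ :=
      exists_fpf_involution_commute n he (R : Subgroup (Perm (Fin n))) hR2
    have : Nonempty (Fin n) := ⟨⟨0, by omega⟩⟩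
    refine forward_nonpow (J_hco_perm n) (R : Subgroup (Perm (Fin n))) hR2 inferInstance
      (by simpa using hpow) (Subgroup.centralizer {τ}) ?_ ?_ ?_ M hM hRM huniq
    · intro g hg
      rw [Subgroup.mem_centralizer_iff]
      intro t ht
      rw [Set.mem_singleton_iff] at ht
      subst ht
      exact (hcomm g hg).symm
    · obtain ⟨g, _, hg⟩ := fpf_centralizer_ne_top (α := Fin n) (by simp; omega) τ hτ2 hτ
      intro htop
      have : g ∈ Subgroup.centralizer {τ} := htop ▸ Subgroup.mem_top g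
      rw [Subgroup.mem_centralizer_iff] at this
      exact hg (this τ rfl).symm
    · intro x y
      obtain ⟨g, hg, _, hgx⟩ :=
        fpf_centralizer_transitive (α := Fin n) (by simp; omega) τ hτ2 hτ x y
      refine ⟨g, ?_, hgx⟩
      rw [Subgroup.mem_centralizer_iff]
      intro t ht
      rw [Set.mem_singleton_iff] at ht
      subst ht
      exact hg.symm

theorem forward_alt (n : ℕ) (hn : 5 ≤ n) (h6 : n ≠ 6) (R : Sylow 2 ↥(alternatingGroup (Fin n)))
    (h : ∃! M : Subgroup ↥(alternatingGroup (Fin n)),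
      IsCoatom M ∧ (R : Subgroup ↥(alternatingGroup (Fin n))) ≤ M) :
    ∃ k : ℕ, 2 ≤ k ∧ n = 2 ^ k + 1 := by
  by_contra hne
  obtain ⟨M, ⟨hM, hRM⟩, huniq'⟩ := h
  have huniq : ∀ M' : Subgroup ↥(alternatingGroup (Fin n)), IsCoatom M' →
      (R : Subgroup ↥(alternatingGroup (Fin n))) ≤ M' → M' = M :=
    fun M' h1 h2 => huniq' M' ⟨h1, h2⟩
  have hR2 : IsPGroup 2 (R : Subgroup ↥(alternatingGroup (Fin n))) := R.isPGroup'
  rcases J_pow_cases n hn hne with ⟨ho, hpow⟩ | ⟨i, hi, hni⟩ | ⟨he, hpow⟩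
  · exact forward_odd (J_hco_alt n) (J_h2_alt n (by omega))
      (R : Subgroup ↥(alternatingGroup (Fin n))) hR2
      (by simpa using ho) (by simp; omega) (by simpa using hpow) M hM hRM huniq
  · exact forward_pow_alt n i hi hni R M hM hRM huniq
  · have hP2 : IsPGroup 2
        ((R : Subgroup ↥(alternatingGroup (Fin n))).map (alternatingGroup (Fin n)).subtype) :=
      hR2.map _
    obtain ⟨τ, hτ2, hτ, hcomm⟩ := exists_fpf_involution_commute n he _ hP2
    have : Nonempty (Fin n) := ⟨⟨0, by omega⟩⟩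
    refine forward_nonpow (J_hco_alt n) (R : Subgroup ↥(alternatingGroup (Fin n))) hR2 inferInstance
      (by simpa using hpow)
      ((Subgroup.centralizer {τ}).subgroupOf (alternatingGroup (Fin n))) ?_ ?_ ?_ M hM hRM huniq
    · intro g hg
      rw [Subgroup.mem_subgroupOf, Subgroup.mem_centralizer_iff]
      intro t ht
      rw [Set.mem_singleton_iff] at ht
      subst ht
      exact (hcomm (g : Perm (Fin n)) (Subgroup.mem_map_of_mem _ hg)).symm
    · obtain ⟨g, hgs, hg⟩ := fpf_centralizer_ne_top (α := Fin n) (by simp; omega) τ hτ2 hτ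
      intro htop
      have : (⟨g, by rw [mem_alternatingGroup]; exact hgs⟩ : alternatingGroup (Fin n)) ∈
          (Subgroup.centralizer {τ}).subgroupOf (alternatingGroup (Fin n)) :=
        htop ▸ Subgroup.mem_top _
      rw [Subgroup.mem_subgroupOf, Subgroup.mem_centralizer_iff] at this
      exact hg (this τ rfl).symm
    · intro x y
      obtain ⟨g, hg, hgs, hgx⟩ :=
        fpf_centralizer_transitive (α := Fin n) (by simp; omega) τ hτ2 hτ x y
      refine ⟨⟨g, by rw [mem_alternatingGroup]; exact hgs⟩, ?_, hgx⟩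
      rw [Subgroup.mem_subgroupOf, Subgroup.mem_centralizer_iff]
      intro t ht
      rw [Set.mem_singleton_iff] at ht
      subst ht
      exact hg.symm

end Cfsg.Agent.S2245L
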